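import Cfsg.Agent.Lib.Linear.TwoGen.Orth.Small
import Cfsg.Agent.Lib.Linear.AutPO.PlusFrame

/-!
# Two generators of orthogonal groups with at least three hyperbolic planes and their quotients
-/

set_option autoImplicit false
set_option linter.unusedSectionVars false

namespace Cfsg.Lib.Linear.TwoGen

open Module Cfsg.Lib.Linear.Orth
open scoped Matrix

section Params

variable {F : Type*} [Field F] [Fintype F]

/-- Conjugates of the diagonal torus of `SL₂`. -/
def torTwo : Fˣ →* GL (Fin 2) F where
  toFun u :=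
    ⟨!![(u : F), (u : F) - (u : F)⁻¹; 0, (u : F)⁻¹], !![(u : F)⁻¹, (u : F)⁻¹ - (u : F); 0, (u : F)],
      by ext i j; fin_cases i <;> fin_cases j <;> simp [Matrix.mul_apply, Fin.sum_univ_two] <;> field_simp <;> ring,
      by ext i j; fin_cases i <;> fin_cases j <;> simp [Matrix.mul_apply, Fin.sum_univ_two] <;> field_simp <;> ring⟩
  map_one' := Units.ext (by ext i j; fin_cases i <;> fin_cases j <;> simp)
  map_mul' u v := Units.ext (by
    ext i j; fin_cases i <;> fin_cases j <;> simp [Matrix.mul_apply, Fin.sum_univ_two] <;> field_simp <;> ring)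

/-- A rotation of the two small fields. -/
def rotTwo (d : F) : GL (Fin 2) F :=
  ⟨!![0, -1; 1, d], !![d, 1; -1, 0],
    by ext i j; fin_cases i <;> fin_cases j <;> simp [Matrix.mul_apply, Fin.sum_univ_two],
    by ext i j; fin_cases i <;> fin_cases j <;> simp [Matrix.mul_apply, Fin.sum_univ_two]⟩

theorem closure_one_top (h : Fintype.card F ≤ 3) : Subfield.closure ({1} : Set F) = ⊤ := by
  classical
  set k := Subfield.closure ({1} : Set F)
  have hk2 : 2 ≤ Fintype.card k := Fintype.one_lt_card
  have hcard : Fintype.card F = Fintype.card k ^ finrank k F := Module.card_eq_pow_finrank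
  have hd : finrank k F ≤ 1 := by
    by_contra hd
    have : Fintype.card k ^ 2 ≤ Fintype.card F := by
      rw [hcard]; exact Nat.pow_le_pow_right Fintype.card_pos (by omega)
    nlinarith
  have hle : Fintype.card F ≤ Fintype.card k := by
    rcases (show finrank k F = 0 ∨ finrank k F = 1 by omega) with e | e <;> rw [e] at hcard <;> simp at hcard <;> omega
  rw [eq_top_iff]
  intro a _
  obtain ⟨⟨b, hb⟩, rfl⟩ := ((Fintype.bijective_iff_injective_and_card (Subtype.val : k → F)).2
    ⟨Subtype.val_injective, le_antisymm (Fintype.card_le_of_injective _ Subtype.val_injective) hle⟩).2 a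
  exact hb

/-- The parameters. -/
theorem exists_params :
    (∃ γ : Fˣ, orderOf γ = Fintype.card F - 1 ∧ (γ : F) ^ 2 ≠ 1 ∧ Subfield.closure ({(γ : F)} : Set F) = ⊤ ∧
      ((Fintype.card F - 1 : ℕ) : F) ≠ 0) ∨
    (Subfield.closure ({1} : Set F) = ⊤ ∧ ∃ (d : F) (N : ℕ), rotTwo d ^ N = 1 ∧ (N : F) ≠ 0 ∧ 2 - d ≠ 0) := by
  classical
  by_cases h4 : 4 ≤ Fintype.card F
  · left
    obtain ⟨v, hv⟩ := IsCyclic.exists_generator (α := Fˣ)
    have hvo : orderOf v = Fintype.card F - 1 := by
      rw [orderOf_eq_card_of_forall_mem_zpowers hv, Nat.card_eq_fintype_card, Fintype.card_units]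
    refine ⟨v, hvo, fun e => ?_, ?_, ?_⟩
    · have : v ^ 2 = 1 := Units.ext (by simpa using e)
      have := Nat.le_of_dvd two_pos (orderOf_dvd_of_pow_eq_one this)
      omega
    · rw [eq_top_iff, ← closure_sq_top hvo, Subfield.closure_le, Set.singleton_subset_iff]
      exact pow_mem (Subfield.subset_closure (Set.mem_singleton _) : (v : F) ∈ Subfield.closure {(v : F)}) 2
    · rw [Nat.cast_sub Fintype.card_pos, FiniteField.cast_card_eq_zero, Nat.cast_one, zero_sub]
      exact neg_ne_zero.2 one_ne_zero
  · right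
    have h2 := Fintype.one_lt_card (α := F)
    refine ⟨closure_one_top (by omega), ?_⟩
    rcases (show Fintype.card F = 2 ∨ Fintype.card F = 3 by omega) with h | h
    · have e2 : (2 : F) = 0 := by
        have := FiniteField.cast_card_eq_zero F
        rw [h] at this; exact_mod_cast this
      refine ⟨1, 3, Units.ext ?_, fun e => ?_, fun e => ?_⟩
      · rw [pow_succ, pow_succ, pow_one, Units.val_mul, Units.val_mul]
        ext i j
        fin_cases i <;> fin_cases j <;> simp [rotTwo, Matrix.mul_apply, Fin.sum_univ_two] <;> linear_combination -e2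
      · have e3 : (3 : F) = 0 := by exact_mod_cast e
        exact one_ne_zero (show (1 : F) = 0 by linear_combination e3 - e2)
      · exact one_ne_zero (show (1 : F) = 0 by linear_combination e)
    · have e3 : (3 : F) = 0 := by
        have := FiniteField.cast_card_eq_zero F
        rw [h] at this; exact_mod_cast this
      refine ⟨0, 4, Units.ext ?_, fun e => ?_, fun e => ?_⟩
      · rw [pow_succ, pow_succ, pow_succ, pow_one, Units.val_mul, Units.val_mul, Units.val_mul]
        ext i j
        fin_cases i <;> fin_cases j <;> simp [rotTwo, Matrix.mul_apply, Fin.sum_univ_two]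
      · have e4 : (4 : F) = 0 := by exact_mod_cast e
        exact one_ne_zero (show (1 : F) = 0 by linear_combination e4 - e3)
      · exact one_ne_zero (show (1 : F) = 0 by linear_combination e3 - e)

end Params

variable {κ : Type} [Fintype κ] [DecidableEq κ] {F : Type*} [Field F] [Fintype F]
  {R : (κ → F) → F} {D : LinearMap.BilinForm F (κ → F)}

/-- Two generators for every number of axes at least three. -/
theorem two_gen_qP (C : Space R D) (n : ℕ) (z₁ z₂ : κ → F) (hz : ∀ z : κ → F, ∃ s t : F, z = s • z₁ + t • z₂) :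
    ∃ x y : ↥(Omega F (qP (n + 2) R)), Subgroup.closure ({x, y} : Set _) = ⊤ := by
  rcases n with _ | n
  · rcases exists_params (F := F) with ⟨γ, hγo, hγ2, hγ, hN⟩ | ⟨hP, d, N, hN, hNp, hd⟩
    · exact two_gen_small_torus C γ hγ2 hγ (by rw [← hγo]; exact pow_orderOf_eq_one γ) hN z₁ z₂ hz
    · exact two_gen_small_prime C hP (rotTwo d) (by simp [rotTwo, Matrix.det_fin_two]) (by simp [rotTwo])
        (by simp [rotTwo]) (by simpa [rotTwo] using hd) hN hNp z₁ z₂ hz
  · rcases exists_params (F := F) with ⟨γ, hγo, hγ2, hγ, hN⟩ | ⟨hP, d, N, hN, hNp, hd⟩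
    · refine two_gen_big C (torTwo γ) (by simp [torTwo, Matrix.det_fin_two]) ?_ hN
        (Or.inr ⟨by simp [torTwo], by simpa [torTwo] using hγ⟩) ?_ ?_ z₁ z₂ hz
      · rw [← map_pow, ← hγo, pow_orderOf_eq_one, map_one]
      · simp only [torTwo, MonoidHom.coe_mk, OneHom.coe_mk]
        simp only [Matrix.of_apply, Matrix.cons_val', Matrix.cons_val_zero, Matrix.cons_val_one]
        intro e
        refine hγ2 ?_
        have := sub_eq_zero.1 e
        field_simp at this
        linear_combination this
      · simp only [torTwo, MonoidHom.coe_mk, OneHom.coe_mk]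
        simp only [Matrix.of_apply, Matrix.cons_val', Matrix.cons_val_zero, Matrix.cons_val_one, mul_zero, sub_zero]
        refine mul_ne_zero (sub_ne_zero.2 fun e => hγ2 ?_) (sub_ne_zero.2 fun e => hγ2 ?_)
        · rw [inv_eq_one.1 e, one_pow]
        · rw [e, one_pow]
    · refine two_gen_big C (rotTwo d) (by simp [rotTwo, Matrix.det_fin_two]) hN hNp (Or.inl hP) (by simp [rotTwo]) ?_
        z₁ z₂ hz
      simp [rotTwo]
      intro e
      exact hd (by linear_combination e)

/-- Passing to the quotient of a renamed form. -/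
theorem two_gen_pomega {ι ι' : Type} [Fintype ι] [DecidableEq ι] [Fintype ι'] [DecidableEq ι'] (e : ι ≃ ι')
    {Q : (ι → F) → F} {Q' : (ι' → F) → F} (he : ∀ v, Q' v = Q (v ∘ e))
    (h : ∃ x y : ↥(Omega F Q), Subgroup.closure ({x, y} : Set _) = ⊤) :
    ∃ x y : Cfsg.POmega F Q', Subgroup.closure ({x, y} : Set (Cfsg.POmega F Q')) = ⊤ := by
  obtain ⟨x, y, hxy⟩ := h
  have hmem : ∀ g : ↥(isometryGroup F Q), AutPO.reGL (F := F) e.symm (g : GL ι F) ∈ isometryGroup F Q' := fun g =>
    mem_iso.2 fun v => by
      rw [AutPO.reGL_act, he, he, ← mem_iso.1 g.2 (v ∘ e)]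
      congr 1
      funext i; simp
  let ψ : ↥(isometryGroup F Q) →* ↥(isometryGroup F Q') :=
    ((AutPO.reGL (F := F) e.symm).comp (isometryGroup F Q).subtype).codRestrict _ hmem
  have hψ : Function.Surjective ψ := fun g => by
    refine ⟨⟨AutPO.reGL (F := F) e (g : GL ι' F), mem_iso.2 fun v => ?_⟩, Subtype.ext ?_⟩
    · have h1 := mem_iso.1 g.2 (v ∘ e.symm)
      rw [he, he] at h1
      rw [AutPO.reGL_act]
      convert h1 using 2
      funext i; simp
    · exact AutPO.reGL_reGL_symm e.symm (g : GL ι' F)
  have hmap : (Omega F Q).map ψ = Omega F Q' := by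
    show (commutator _).map ψ = commutator _
    rw [_root_.commutator_def, Subgroup.map_commutator, Subgroup.map_top_of_surjective _ hψ]
    rfl
  let f : ↥(Omega F Q) →* ↥(Omega F Q') :=
    (ψ.comp (Omega F Q).subtype).codRestrict _ fun g => hmap ▸ Subgroup.mem_map_of_mem ψ g.2
  have hf : Function.Surjective f := fun g => by
    have hg : (g : ↥(isometryGroup F Q')) ∈ (Omega F Q).map ψ := by rw [hmap]; exact g.2
    obtain ⟨u, hu, e'⟩ := hg
    exact ⟨⟨u, hu⟩, Subtype.ext e'⟩
  let π := (QuotientGroup.mk' (Subgroup.center ↥(Omega F Q'))).comp f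
  refine ⟨π x, π y, ?_⟩
  have hπ : Function.Surjective π := (QuotientGroup.mk'_surjective _).comp hf
  have := congrArg (Subgroup.map π) hxy
  rw [MonoidHom.map_closure, Subgroup.map_top_of_surjective π hπ] at this
  simpa [Set.image_pair] using this

end Cfsg.Lib.Linear.TwoGen
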