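import Cfsg.Agent.Lib.Linear.TwoGen.Orth.Levi

/-!
# Two generators of `Ω` with at least four axes

A root element on the axes `0`, `1` times a conjugated block on the axes `2`, `3`, and the monomial element.
-/

set_option autoImplicit false
set_option linter.unusedSectionVars false

namespace Cfsg.Lib.Linear.TwoGen

open Module Cfsg.Lib.Linear.Orth
open scoped Matrix

/-- Generators of a subgroup from its image. -/
theorem two_gen_of_le {G' : Type*} [Group G'] {Ω : Subgroup G'} {K : Type*} [Group K] {f : G' →* K}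
    (hf : Function.Injective f) {a b : K} (ha : a ∈ Ω.map f) (hb : b ∈ Ω.map f)
    (h : Ω.map f ≤ Subgroup.closure ({a, b} : Set K)) :
    ∃ x y : ↥Ω, Subgroup.closure ({x, y} : Set ↥Ω) = ⊤ := by
  obtain ⟨x, hx, rfl⟩ := ha
  obtain ⟨y, hy, rfl⟩ := hb
  refine ⟨⟨x, hx⟩, ⟨y, hy⟩, ?_⟩
  refine Subgroup.map_injective (f := f.comp Ω.subtype) (hf.comp Ω.subtype_injective) (le_antisymm ?_ ?_)
  · exact Subgroup.map_mono le_top
  · rw [MonoidHom.map_closure, ← Subgroup.map_map, ← MonoidHom.range_eq_map, Subgroup.range_subtype]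
    exact h.trans (le_of_eq (by simp [Set.image_pair]))

variable {κ : Type} [Fintype κ] [DecidableEq κ] {n : ℕ} {F : Type*} [Field F] [Fintype F]
  {R : (κ → F) → F} {D : LinearMap.BilinForm F (κ → F)}

local notation "Q'" => qP (n + 2) R
local notation "B'" => bP (n + 2) D
local notation "ι'" => (Fin (n + 3) ⊕ Fin (n + 3)) ⊕ κ

theorem inv_entries (A : GL (Fin 2) F) (hA : A.val.det = 1) :
    (A⁻¹ : GL (Fin 2) F).val 0 0 = A.val 1 1 ∧ (A⁻¹ : GL (Fin 2) F).val 0 1 = -A.val 0 1 ∧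
    (A⁻¹ : GL (Fin 2) F).val 1 0 = -A.val 1 0 ∧ (A⁻¹ : GL (Fin 2) F).val 1 1 = A.val 0 0 := by
  rw [Matrix.coe_units_inv, Matrix.inv_def, hA, Ring.inverse_one, one_smul, Matrix.adjugate_fin_two]
  simp

theorem embGL_inv {p q : Fin (n + 3)} (h : p ≠ q) (A : GL (Fin 2) F) :
    (embGL h A)⁻¹ = embGL h A⁻¹ := (map_inv _ A).symm

theorem lEl_emb_eP (C : Space R D) {p q : Fin (n + 3)} (h : p ≠ q) (z₁ z₂ : κ → F) (A : GL (Fin 2) F) :
    (lEl R D p q z₁ z₂ (embGL h A)).val *ᵥ (eP p : ι' → F) = A.val 0 0 • eP p + A.val 1 0 • eP q ∧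
    (lEl R D p q z₁ z₂ (embGL h A)).val *ᵥ (eP q : ι' → F) = A.val 0 1 • eP p + A.val 1 1 • eP q ∧
    (∀ i, i ≠ p → i ≠ q → (lEl R D p q z₁ z₂ (embGL h A)).val *ᵥ (eP i : ι' → F) = eP i) := by
  refine ⟨?_, ?_, fun i hp hq => ?_⟩
  · rw [lEl_eP C, Finset.sum_eq_add p q h]
    · simp [embGL_apply, h, h.symm]
    · intro a _ ha; simp [embGL_apply, ha.1, ha.2]
    · simp
    · simp
  · rw [lEl_eP C, Finset.sum_eq_add p q h]
    · simp [embGL_apply, h, h.symm]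
    · intro a _ ha; simp [embGL_apply, ha.1, ha.2]
    · simp
    · simp
  · rw [lEl_eP C, Finset.sum_eq_single i]
    · simp [embGL_apply, hp, hq]
    · intro a _ ha; simp [embGL_apply, hp, hq, ha]
    · simp

theorem lEl_emb_inr (C : Space R D) {p q : Fin (n + 3)} (h : p ≠ q) (z₁ z₂ : κ → F) (A : GL (Fin 2) F)
    (hA : A.val.det = 1) :
    ((lEl R D p q z₁ z₂ (embGL h A)).val *ᵥ (fP p : ι' → F)) ∘ Sum.inr =
      (A.val 1 1 - 1) • z₁ + (-A.val 0 1) • z₂ ∧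
    ((lEl R D p q z₁ z₂ (embGL h A)).val *ᵥ (fP q : ι' → F)) ∘ Sum.inr =
      (-A.val 1 0) • z₁ + (A.val 0 0 - 1) • z₂ := by
  obtain ⟨i1, i2, i3, i4⟩ := inv_entries A hA
  have k : ∀ i, ((fP i : ι' → F) ∘ Sum.inr) = 0 := fun i => funext fun j => by simp [fP]
  have f : ∀ i, (fun j => (fP i : ι' → F) (.inl (.inr j))) = Pi.single i 1 := fun i => funext fun j => by
    simp [fP, Pi.single_apply]
  refine ⟨?_, ?_⟩ <;>
    rw [lEl_inr C, k, f, Matrix.mulVec_single_one, embGL_inv] <;>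
    simp [-Matrix.coe_units_inv, -map_inv, embGL_apply, fP, h, h.symm, i1, i2, i3, i4]

theorem lEl_fP_fix (C : Space R D) {p q : Fin (n + 3)} (h : p ≠ q) (z₁ z₂ : κ → F) (A : GL (Fin 2) F)
    {i : Fin (n + 3)} (hp : i ≠ p) (hq : i ≠ q) :
    (lEl R D p q z₁ z₂ (embGL h A)).val *ᵥ (fP i : ι' → F) = fP i := by
  have e : (levP (embGL h A)).val *ᵥ (fP i : ι' → F) = fP i := by
    obtain ⟨l1, l2, l3⟩ := levP_act (κ := κ) (embGL h A) (fP i : ι' → F)
    have f : (fun j => (fP i : ι' → F) (.inl (.inr j))) = Pi.single i 1 := funext fun j => by simp [fP, Pi.single_apply]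
    have g : (fun j => (fP i : ι' → F) (.inl (.inl j))) = 0 := funext fun j => by simp [fP]
    funext j
    rcases j with (j | j) | j
    · rw [l1, g, Matrix.mulVec_zero]; simp [fP]
    · rw [l2, f, Matrix.mulVec_single_one, embGL_inv]
      simp [-Matrix.coe_units_inv, -map_inv, embGL_apply, hp, hq, fP, Pi.single_apply, eq_comm]
    · exact congrFun l3 j
  rw [lEl_of_fixed C p q z₁ z₂ _ (funext fun j => by simp [fP]) (by simp [fP, hp.symm]) (by simp [fP, hq.symm])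
    (by rw [e]; simp [fP, hp.symm]) (by rw [e]; simp [fP, hq.symm]), e]

theorem two_gen_big {n : ℕ} (C : Space R D) (A : GL (Fin 2) F) (hA : A.val.det = 1) {N : ℕ} (hN : A ^ N = 1)
    (hNp : (N : F) ≠ 0)
    (hfull : Subfield.closure ({1} : Set F) = ⊤ ∨ (A.val 1 0 = 0 ∧ Subfield.closure ({A.val 0 0} : Set F) = ⊤))
    (hb : A.val 0 1 ≠ 0) (hI : (A.val 1 1 - 1) * (A.val 0 0 - 1) - A.val 0 1 * A.val 1 0 ≠ 0)
    (z₁ z₂ : κ → F) (hz : ∀ z : κ → F, ∃ s t : F, z = s • z₁ + t • z₂) :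
    ∃ x y : ↥(Omega F (qP (n + 3) R)), Subgroup.closure ({x, y} : Set _) = ⊤ := by
  set Q := qP (n + 3) R with hQ
  set B := bP (n + 3) D with hB
  have CQ : Space Q B := space_qP C
  set p : Fin (n + 1 + 3) := ⟨2, by omega⟩
  set q : Fin (n + 1 + 3) := ⟨3, by omega⟩
  have hpq : p ≠ q := by simp [p, q, Fin.ext_iff]
  set l := lEl R D p q z₁ z₂ (embGL hpq A) with hl
  set T := sGL Q B (eP (0 : Fin (n + 1 + 3))) (eP 1) with hT
  set w := monW κ (n + 1) F with hw'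
  have h01 : B (eP (0 : Fin (n + 1 + 3))) (eP 1) = 0 := by rw [hB, bP_eP]; simp [eP]
  have hTm : T ∈ Cfsg.Geo.omegaGL Q := sGL_mem_omega C (by omega) (qP_eP C _) h01
  have hlm : l ∈ Cfsg.Geo.omegaGL Q := lEl_mem C p q z₁ z₂ (by rw [embGL_det, hA]; exact IsSquare.one)
  have hwm : w ∈ Cfsg.Geo.omegaGL Q := monW_mem
  refine two_gen_of_le (isometryGroup F Q).subtype_injective (mul_mem hTm hlm) hwm ?_
  set H := Subgroup.closure ({T * l, w} : Set _)
  have hH : H ≤ isometryGroup F Q := by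
    rw [Subgroup.closure_le]
    rintro g (rfl | rfl)
    exacts [omegaGL_le_iso (mul_mem hTm hlm), omegaGL_le_iso hwm]
  have hwH : w ∈ H := Subgroup.subset_closure (Set.mem_insert_of_mem _ rfl)
  obtain ⟨lp, lq, lo⟩ := lEl_emb_eP C hpq z₁ z₂ A
  have l0 := lo 0 (by simp [p, Fin.ext_iff]) (by simp [q, Fin.ext_iff])
  have l1 := lo 1 (by simp [p, Fin.ext_iff]) (by simp [q, Fin.ext_iff])
  obtain ⟨hTH, hlH⟩ := split_gen (H := H) CQ (qP_eP C _) h01 (omegaGL_le_iso hlm)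
    ⟨1, 1, one_mul 1, by rw [one_smul]; exact l0, by rw [one_smul]; exact l1⟩
    (lEl_pow p q z₁ z₂ (by rw [← map_pow, hN, map_one])) hNp (Subgroup.subset_closure (Set.mem_insert _ _))
  obtain ⟨s1, -⟩ := monW_step (κ := κ) (F := F) (n := n + 1) (i := 1) le_rfl (by omega)
  obtain ⟨s2, -⟩ := monW_step (κ := κ) (F := F) (n := n + 1) (i := 2) (by omega) (by omega)
  have hfp : sGL Q B (fP (0 : Fin (n + 1 + 3))) (eP p) ∈ H := by
    have := mul_mem (mul_mem hwH hTH) (inv_mem hwH)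
    rw [sGL_conj CQ (qP_eP C _) h01 (omegaGL_le_iso hwm), monW_e0] at this
    rwa [show (1 : Fin (n + 1 + 3)) = ⟨1, by omega⟩ from rfl, s1] at this
  have h0p : B (fP (0 : Fin (n + 1 + 3))) (eP p) = 0 := by rw [hB, bP_fP]; simp [eP, p, Fin.ext_iff]
  have hF0 : InC Q B H (fP (0 : Fin (n + 1 + 3))) (eP p) := by
    rcases hfull with h | ⟨hc, h⟩
    · refine inC_of_scaled CQ hH (qP_fP C _) h0p hfp (one_mem H) (r := 1) (s := 1) ?_ ?_ ?_
      · rw [Units.val_one, Matrix.one_mulVec, one_smul]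
      · rw [Units.val_one, Matrix.one_mulVec, one_smul]
      · rwa [one_mul]
    · refine inC_of_scaled CQ hH (qP_fP C _) h0p hfp hlH (r := 1) (s := A.val 0 0) ?_ ?_ ?_
      · rw [one_smul]
        exact lEl_fP_fix C hpq z₁ z₂ A (by simp [p, Fin.ext_iff]) (by simp [q, Fin.ext_iff])
      · rw [lp, hc, zero_smul, add_zero]
      · rwa [one_mul]
  have hE1 : InC Q B H (eP (0 : Fin (n + 1 + 3))) (eP 1) := by
    refine InC.map_inv CQ hH hwH ?_
    rw [monW_e0, show (1 : Fin (n + 1 + 3)) = ⟨1, by omega⟩ from rfl, s1]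
    exact hF0
  have hEq : InC Q B H (eP (0 : Fin (n + 1 + 3))) (eP q) := by
    have := hF0.map CQ hH hwH
    rwa [monW_f0, s2] at this
  have lfix : ∀ {x}, InC Q B H (eP (0 : Fin (n + 1 + 3))) x → InC Q B H (eP 0) (l.val *ᵥ x) := fun h => by
    have := h.map CQ hH hlH
    rwa [l0] at this
  have hE2 : InC Q B H (eP (0 : Fin (n + 1 + 3))) (eP p) := by
    have := (lfix hEq).sub CQ (hEq.smul (A.val 1 1))
    rw [lq, add_sub_cancel_right] at this
    exact this.of_smul hb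
  refine omega_le_of_axes C hH hwH hE1 hE2 fun z => ?_
  have hK : ∀ i, i ≠ 0 → InC Q B H (eP (0 : Fin (n + 1 + 3))) (zP ((l.val *ᵥ fP i) ∘ Sum.inr)) := fun i hi =>
    inC_zP_of_mem C hH hwH hE1 hE2 (lfix (inC_axes C hH hwH hE1 hE2 i hi).2.1)
  obtain ⟨kp, kq⟩ := lEl_emb_inr C hpq z₁ z₂ A hA
  have h1 := hK p (by simp [p, Fin.ext_iff])
  have h2 := hK q (by simp [q, Fin.ext_iff])
  rw [kp] at h1
  rw [kq] at h2
  obtain ⟨s, t, rfl⟩ := hz z
  set Δ := (A.val 1 1 - 1) * (A.val 0 0 - 1) - A.val 0 1 * A.val 1 0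
  have := ((h1.smul ((s * (A.val 0 0 - 1) + t * A.val 1 0) / Δ)).add CQ
    (h2.smul ((t * (A.val 1 1 - 1) + s * A.val 0 1) / Δ)))
  convert this using 1
  funext j
  rcases j with j | j
  · simp [zP]
  · simp only [zP, Sum.elim_inr, Pi.add_apply, Pi.smul_apply, smul_eq_mul]
    field_simp
    ring

end Cfsg.Lib.Linear.TwoGen
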