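import Cfsg.Agent.Lib.Linear.OrthRule
import Cfsg.Agent.Lib.Linear.TwoGen.Symp

/-!
# Centres of Siegel elements inside a subgroup

`InC Q B H u a`: the Siegel elements of centre `u` along the line of `a` lie in `H`. For fixed singular `u` these
vectors form a subspace, carried along by `H`.
-/

set_option autoImplicit false

namespace Cfsg.Lib.Linear.TwoGen

open Module Cfsg.Lib.Linear.Orth
open scoped Matrix

variable {ι : Type} [Fintype ι] [DecidableEq ι] {F : Type*} [Field F]
  {Q : (ι → F) → F} {B : LinearMap.BilinForm F (ι → F)} {H : Subgroup (GL ι F)}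

/-- The Siegel elements of centre `u` along `a` lie in `H`. -/
def InC (Q : (ι → F) → F) (B : LinearMap.BilinForm F (ι → F)) (H : Subgroup (GL ι F)) (u a : ι → F) : Prop :=
  Q u = 0 ∧ B u a = 0 ∧ ∀ c : F, sGL Q B u (c • a) ∈ H

theorem InC.add (C : Space Q B) {u a b : ι → F} (ha : InC Q B H u a) (hb : InC Q B H u b) :
    InC Q B H u (a + b) :=
  ⟨ha.1, by rw [map_add, ha.2.1, hb.2.1, add_zero], fun c => by
    rw [smul_add, ← sGL_mul C ha.1 (by rw [map_smul, ha.2.1, smul_zero]) (by rw [map_smul, hb.2.1, smul_zero])]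
    exact mul_mem (ha.2.2 c) (hb.2.2 c)⟩

theorem InC.smul {u a : ι → F} (ha : InC Q B H u a) (r : F) : InC Q B H u (r • a) :=
  ⟨ha.1, by rw [map_smul, ha.2.1, smul_zero], fun c => by rw [smul_smul]; exact ha.2.2 _⟩

theorem InC.sub (C : Space Q B) {u a b : ι → F} (ha : InC Q B H u a) (hb : InC Q B H u b) :
    InC Q B H u (a - b) := by
  rw [sub_eq_add_neg, ← neg_one_smul F b]; exact ha.add C (hb.smul _)

theorem InC.of_smul {u a : ι → F} {r : F} (hr : r ≠ 0) (ha : InC Q B H u (r • a)) : InC Q B H u a := by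
  simpa [smul_smul, inv_mul_cancel₀ hr] using ha.smul r⁻¹

theorem InC.self (C : Space Q B) {u : ι → F} (hu : Q u = 0) : InC Q B H u u :=
  ⟨hu, C.self_zero hu, fun c => by
    have h0 : B u (0 : ι → F) = 0 := map_zero _
    rw [← zero_add (c • u), sGL_add_self C hu h0,
      show sGL Q B u 0 = 1 from Units.ext (by rw [sGL_val C hu h0, sMat_zero C hu]; rfl)]
    exact one_mem H⟩

theorem InC.zero (C : Space Q B) {u : ι → F} (hu : Q u = 0) : InC Q B H u 0 := by
  simpa using (InC.self (H := H) C hu).smul 0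

theorem InC.map (C : Space Q B) (hH : H ≤ isometryGroup F Q) {u a : ι → F} (ha : InC Q B H u a) {g : GL ι F}
    (hg : g ∈ H) : InC Q B H (g.val *ᵥ u) (g.val *ᵥ a) :=
  ⟨by rw [mem_iso.mp (hH hg), ha.1], by rw [C.B_act (hH hg), ha.2.1], fun c => by
    rw [← Matrix.mulVec_smul, ← sGL_conj C ha.1 (by rw [map_smul, ha.2.1, smul_zero]) (hH hg)]
    exact mul_mem (mul_mem hg (ha.2.2 c)) (inv_mem hg)⟩

theorem InC.map_inv (C : Space Q B) (hH : H ≤ isometryGroup F Q) {u a : ι → F} {g : GL ι F} (hg : g ∈ H)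
    (ha : InC Q B H (g.val *ᵥ u) (g.val *ᵥ a)) : InC Q B H u a := by
  simpa [inv_act] using ha.map C hH (inv_mem hg)

theorem InC.centre_smul (C : Space Q B) {u a : ι → F} (ha : InC Q B H u a) {r : F} (hr : r ≠ 0) :
    InC Q B H (r • u) a :=
  ⟨by rw [C.smul, ha.1, mul_zero], by rw [map_smul, LinearMap.smul_apply, ha.2.1, smul_zero], fun c => by
    rw [sGL_smul C ha.1 (by rw [map_smul, ha.2.1, smul_zero]), smul_smul]; exact ha.2.2 _⟩

theorem InC.rpair {u a : ι → F} (ha : InC Q B H u a) (hQa : Q a = 0) : RPair Q B H u a :=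
  ⟨ha.1, hQa, ha.2.1, ha.2.2⟩

theorem inC_of_rpair {u a : ι → F} (h : RPair Q B H u a) : InC Q B H u a := ⟨h.1, h.2.2.1, h.2.2.2⟩

/-- The vectors along which the centre `u` works, as a subspace. -/
def inCSub (C : Space Q B) (H : Subgroup (GL ι F)) {u : ι → F} (hu : Q u = 0) : Submodule F (ι → F) where
  carrier := {a | InC Q B H u a}
  add_mem' := fun ha hb => ha.add C hb
  zero_mem' := InC.zero C hu
  smul_mem' := fun r _ ha => ha.smul r

theorem mem_inCSub {C : Space Q B} {u : ι → F} {hu : Q u = 0} {a : ι → F} :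
    a ∈ inCSub C H hu ↔ InC Q B H u a := Iff.rfl

theorem sGL_pow (C : Space Q B) {u a : ι → F} (hu : Q u = 0) (hua : B u a = 0) (j : ℕ) :
    sGL Q B u a ^ j = sGL Q B u ((j : F) • a) := by
  induction j with
  | zero =>
    rw [pow_zero, Nat.cast_zero, zero_smul]
    exact Units.ext (by rw [sGL_val C hu (map_zero _), sMat_zero C hu]; rfl)
  | succ j ih =>
    rw [pow_succ, ih, sGL_mul C hu (by rw [map_smul, hua, smul_zero]) hua, Nat.cast_succ, add_smul, one_smul]

/-- A product of commuting elements of coprime orders gives both. -/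
theorem split_comm [Finite F] (C : Space Q B) {u v : ι → F} (hu : Q u = 0) (huv : B u v = 0) {l : GL ι F}
    (hcomm : Commute (sGL Q B u v) l) {N : ℕ} (hN : l ^ N = 1) (hNp : (N : F) ≠ 0) (hmem : sGL Q B u v * l ∈ H) :
    sGL Q B u v ∈ H ∧ l ∈ H := by
  have hT : sGL Q B u v ∈ H := by
    have e := pow_mem hmem N
    rw [hcomm.mul_pow, hN, mul_one, sGL_pow C hu huv] at e
    obtain ⟨p, hp⟩ := CharP.exists F
    haveI := hp
    haveI : Fact p.Prime := ⟨CharP.char_is_prime F p⟩
    have hNdvd : ¬ p ∣ N := fun h => hNp ((CharP.cast_eq_zero_iff F p N).2 h)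
    obtain ⟨j, -, hj⟩ := Nat.exists_mul_mod_eq_one_of_coprime
      ((Nat.Prime.coprime_iff_not_dvd (Fact.out (p := p.Prime))).2 hNdvd).symm (Fact.out (p := p.Prime)).one_lt
    have e' := pow_mem e j
    rw [sGL_pow C hu (by rw [map_smul, huv, smul_zero]), smul_smul, mul_comm, ← Nat.cast_mul] at e'
    have h1 : ((N * j : ℕ) : F) = 1 := by
      rw [← Nat.mod_add_div (N * j) p, hj, Nat.cast_add, Nat.cast_mul, CharP.cast_eq_zero F p, zero_mul, add_zero,
        Nat.cast_one]
    rwa [h1, one_smul] at e'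
  refine ⟨hT, ?_⟩
  have : l = (sGL Q B u v)⁻¹ * (sGL Q B u v * l) := by group
  rw [this]; exact mul_mem (inv_mem hT) hmem

/-- The same, with eigenvalues of product one. -/
theorem split_gen [Finite F] (C : Space Q B) {u v : ι → F} (hu : Q u = 0) (huv : B u v = 0) {l : GL ι F}
    (hl : l ∈ isometryGroup F Q) (hlu : ∃ r s : F, r * s = 1 ∧ l.val *ᵥ u = r • u ∧ l.val *ᵥ v = s • v)
    {N : ℕ} (hN : l ^ N = 1) (hNp : (N : F) ≠ 0) (hmem : sGL Q B u v * l ∈ H) :
    sGL Q B u v ∈ H ∧ l ∈ H := by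
  obtain ⟨r, s, hrs, h1, h2⟩ := hlu
  refine split_comm C hu huv ?_ hN hNp hmem
  have := sGL_conj C hu huv hl
  rw [h1, h2, sGL_smul C hu (by rw [map_smul, huv, smul_zero]), smul_smul, hrs, one_smul] at this
  exact (mul_inv_eq_iff_eq_mul.1 this).symm

/-- One root element, and an element scaling it, give the root group. -/
theorem inC_of_scaled [Fintype F] (C : Space Q B) (hH : H ≤ isometryGroup F Q) {u v : ι → F} (hu : Q u = 0)
    (huv : B u v = 0) (h1 : sGL Q B u v ∈ H) {l : GL ι F} (hl : l ∈ H) {r s : F}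
    (hlu : l.val *ᵥ u = r • u) (hlv : l.val *ᵥ v = s • v) (hgen : Subfield.closure ({r * s} : Set F) = ⊤) :
    InC Q B H u v := by
  let A : AddSubgroup F :=
    { carrier := {t | sGL Q B u (t • v) ∈ H}
      add_mem' := fun {a b} ha hb => by
        show sGL Q B u ((a + b) • v) ∈ H
        rw [add_smul, ← sGL_mul C hu (by rw [map_smul, huv, smul_zero]) (by rw [map_smul, huv, smul_zero])]
        exact mul_mem ha hb
      zero_mem' := by
        show sGL Q B u ((0 : F) • v) ∈ H
        have := (InC.zero (H := H) C hu).2.2 0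
        simpa using this
      neg_mem' := fun {a} ha => by
        show sGL Q B u ((-a) • v) ∈ H
        have : sGL Q B u ((-a) • v) = (sGL Q B u (a • v))⁻¹ := eq_inv_of_mul_eq_one_left (by
          rw [sGL_mul C hu (by rw [map_smul, huv, smul_zero]) (by rw [map_smul, huv, smul_zero]), neg_smul,
            neg_add_cancel]
          exact Units.ext (by rw [sGL_val C hu (map_zero _), sMat_zero C hu]; rfl))
        rw [this]; exact inv_mem ha }
  refine ⟨hu, huv, fun t => mem_of_scaled (A := A) hgen (by show sGL Q B u ((1 : F) • v) ∈ H; simpa using h1)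
    (fun a ha => ?_) t⟩
  show sGL Q B u ((r * s * a) • v) ∈ H
  have := mul_mem (mul_mem hl ha) (inv_mem hl)
  rw [sGL_conj C hu (by rw [map_smul, huv, smul_zero]) (hH hl), Matrix.mulVec_smul, hlu, hlv, smul_smul,
    sGL_smul C hu (by rw [map_smul, huv, smul_zero]), smul_smul] at this
  rwa [show r * s * a = r * (a * s) by ring]

/-- The centre `e` and an element exchanging it with a non-orthogonal point give `Ω`. -/
theorem omega_le_of_centre [Finite F] (C : Space Q B) (h5 : 5 ≤ Fintype.card ι) (hH : H ≤ isometryGroup F Q)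
    {e : ι → F} (he : Q e = 0) (hC : ∀ a, B e a = 0 → InC Q B H e a) {w : GL ι F} (hw : w ∈ H)
    (hwe : B e (w.val *ᵥ e) ≠ 0) : Cfsg.Geo.omegaGL Q ≤ H := by
  have h : Centre Q B H e := fun a ha => by simpa using (hC a ha).2.2 1
  exact omega_le_of_two C h5 hH he (by rw [mem_iso.mp (hH hw), he]) hwe h (centre_act C hH he hw h)

end Cfsg.Lib.Linear.TwoGen
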