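import Cfsg.Agent.Lib.Linear.TwoGen.Orth.Core
import Cfsg.Agent.Lib.Linear.OrthLevi
import Cfsg.Agent.Lib.Linear.OrthSum
import Cfsg.Agent.Lib.Linear.OrthForms

/-!
# Hyperbolic axes plus an orthogonal complement, and the monomial generator

The space is the plus type space on the axes `Fin (n + 1)` summed with another space. The monomial element exchanges
the two points of the axis `0` and runs cyclically through the other axes with one exchange.
-/

set_option autoImplicit false
set_option linter.unusedSectionVars false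

namespace Cfsg.Lib.Linear.TwoGen

open Module Cfsg.Lib.Linear.Orth
open scoped Matrix

variable {κ : Type} [Fintype κ] [DecidableEq κ] {n : ℕ} {F : Type*} [Field F]

/-- The first point of an axis. -/
def eP (i : Fin (n + 1)) : (Fin (n + 1) ⊕ Fin (n + 1)) ⊕ κ → F := Pi.single (.inl (.inl i)) 1

/-- The second point of an axis. -/
def fP (i : Fin (n + 1)) : (Fin (n + 1) ⊕ Fin (n + 1)) ⊕ κ → F := Pi.single (.inl (.inr i)) 1

/-- A vector of the complement. -/
def zP (z : κ → F) : (Fin (n + 1) ⊕ Fin (n + 1)) ⊕ κ → F := Sum.elim 0 z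

/-- The form. -/
def qP (n : ℕ) (R : (κ → F) → F) : ((Fin (n + 1) ⊕ Fin (n + 1)) ⊕ κ → F) → F :=
  sumQ (Cfsg.quadFormPlus (n + 1) F) R

/-- The polar form. -/
def bP (n : ℕ) (D : LinearMap.BilinForm F (κ → F)) :
    LinearMap.BilinForm F ((Fin (n + 1) ⊕ Fin (n + 1)) ⊕ κ → F) :=
  LinearMap.mk₂ F (fun u v =>
      (∑ i, (u (.inl (.inl i)) * v (.inl (.inr i)) + u (.inl (.inr i)) * v (.inl (.inl i)))) +
        D (u ∘ Sum.inr) (v ∘ Sum.inr))
    (fun a b c => by simp [Pi.add_comp, add_mul, Finset.sum_add_distrib]; ring)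
    (fun r a b => by simp [Pi.smul_comp, mul_add, Finset.mul_sum, mul_assoc])
    (fun a b c => by simp [Pi.add_comp, mul_add, Finset.sum_add_distrib]; ring)
    (fun r a b => by simp [Pi.smul_comp, mul_add, Finset.mul_sum, mul_left_comm])

variable {R : (κ → F) → F} {D : LinearMap.BilinForm F (κ → F)}

theorem space_qP (C : Space R D) : Space (qP n R) (bP n D) := by
  obtain ⟨B, CB⟩ := exists_space_plus (F := F) (n + 1)
  have := CB.sum C
  have e : bP n D = sumB B D := LinearMap.ext₂ fun u v => by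
    simp only [bP, sumB, LinearMap.mk₂_apply]
    rw [← CB.polar, polar_plus_apply]
    rfl
  rw [e]; exact this

theorem bP_eP (i : Fin (n + 1)) (x : (Fin (n + 1) ⊕ Fin (n + 1)) ⊕ κ → F) :
    bP n D (eP i) x = x (.inl (.inr i)) := by
  have h : ((eP i : (Fin (n + 1) ⊕ Fin (n + 1)) ⊕ κ → F) ∘ Sum.inr) = 0 := funext fun k => by simp [eP]
  rw [bP, LinearMap.mk₂_apply, h]; simp [eP, Pi.single_apply]

theorem bP_fP (i : Fin (n + 1)) (x : (Fin (n + 1) ⊕ Fin (n + 1)) ⊕ κ → F) :
    bP n D (fP i) x = x (.inl (.inl i)) := by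
  have h : ((fP i : (Fin (n + 1) ⊕ Fin (n + 1)) ⊕ κ → F) ∘ Sum.inr) = 0 := funext fun k => by simp [fP]
  rw [bP, LinearMap.mk₂_apply, h]; simp [fP, Pi.single_apply]

theorem bP_zP (z : κ → F) (x : (Fin (n + 1) ⊕ Fin (n + 1)) ⊕ κ → F) :
    bP n D (zP z) x = D z (x ∘ Sum.inr) := by
  simp [bP, zP]

theorem qP_eP (C : Space R D) (i : Fin (n + 1)) : qP n R (eP i) = 0 := by
  have h : ((eP i : (Fin (n + 1) ⊕ Fin (n + 1)) ⊕ κ → F) ∘ Sum.inr) = 0 := funext fun k => by simp [eP]
  rw [qP, sumQ, h, C.zero]; simp [Cfsg.quadFormPlus, eP, Pi.single_apply]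

theorem qP_fP (C : Space R D) (i : Fin (n + 1)) : qP n R (fP i) = 0 := by
  have h : ((fP i : (Fin (n + 1) ⊕ Fin (n + 1)) ⊕ κ → F) ∘ Sum.inr) = 0 := funext fun k => by simp [fP]
  rw [qP, sumQ, h, C.zero]; simp [Cfsg.quadFormPlus, fP, Pi.single_apply]

theorem qP_zP (z : κ → F) : qP n R (zP z : (Fin (n + 1) ⊕ Fin (n + 1)) ⊕ κ → F) = R z := by
  simp [qP, sumQ, zP, Cfsg.quadFormPlus]

/-- A vector along its axes and its complement part. -/
theorem decomp (x : (Fin (n + 1) ⊕ Fin (n + 1)) ⊕ κ → F) :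
    x = (∑ i, x (.inl (.inl i)) • eP i) + (∑ i, x (.inl (.inr i)) • fP i) + zP (x ∘ Sum.inr) := by
  funext j
  rcases j with (j | j) | j <;> simp [eP, fP, zP, Finset.sum_apply, Pi.single_apply]

/-- The cyclic permutation of the axes other than `0`. -/
def cycPerm (n : ℕ) : Equiv.Perm (Fin (n + 1)) := Equiv.Perm.decomposeFin.symm (0, finRotate n)

theorem cycPerm_zero : cycPerm n 0 = 0 := Equiv.Perm.decomposeFin_symm_apply_zero _ _

theorem cycPerm_succ (i : Fin n) : cycPerm n i.succ = (finRotate n i).succ := by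
  rw [cycPerm, Equiv.Perm.decomposeFin_symm_apply_succ]; simp

/-- The sign of that permutation. -/
def cycSign (n : ℕ) (F : Type*) [Field F] : F := ((Equiv.Perm.sign (cycPerm n) : ℤˣ) : ℤ)

theorem cycSign_mul : cycSign n F * cycSign n F = 1 := by
  unfold cycSign
  rcases Int.units_eq_one_or (Equiv.Perm.sign (cycPerm n)) with h | h <;> simp [h]

theorem cycSign_ne_zero : cycSign n F ≠ 0 := left_ne_zero_of_mul_eq_one cycSign_mul

/-- The weights making the permutation special. -/
def cycWt (n : ℕ) (F : Type*) [Field F] (i : Fin (n + 1)) : F := if (i : ℕ) = n then cycSign n F else 1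

/-- The monomial matrix of the cycle: column `i` has its weight in row `cycPerm n i`. -/
def cycMat (n : ℕ) (F : Type*) [Field F] : Matrix (Fin (n + 1)) (Fin (n + 1)) F :=
  fun a i => if a = cycPerm n i then cycWt n F i else 0

theorem cycWt_mul (i : Fin (n + 1)) : cycWt n F i * cycWt n F i = 1 := by
  unfold cycWt; split_ifs <;> simp [cycSign_mul]

/-- It as a unit, its transpose the inverse. -/
def cycGL (n : ℕ) (F : Type*) [Field F] : GL (Fin (n + 1)) F :=
  have h : (cycMat n F)ᵀ * cycMat n F = 1 := by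
    ext i j
    rw [Matrix.mul_apply, Finset.sum_eq_single (cycPerm n i)]
    · rcases eq_or_ne i j with rfl | hij
      · simp [cycMat, cycWt_mul]
      · simp [cycMat, hij]
    · intro b _ hb; simp [cycMat, hb]
    · simp
  ⟨cycMat n F, (cycMat n F)ᵀ, mul_eq_one_comm.mp h, h⟩

theorem cycGL_det : IsSquare (cycGL n F).val.det := by
  have e : (cycGL n F).val = (Equiv.Perm.permMatrix F (cycPerm n)⁻¹) * Matrix.diagonal (cycWt n F) := by
    ext a i
    rw [Matrix.mul_diagonal]
    show cycMat n F a i = _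
    simp only [cycMat, Equiv.Perm.permMatrix, PEquiv.toMatrix_apply, Equiv.toPEquiv_apply, Option.mem_some_iff]
    by_cases h : a = cycPerm n i
    · simp [h]
    · have : (cycPerm n)⁻¹ a ≠ i := fun e => h (by rw [← e]; simp)
      simp [h]
      exact fun e => absurd e this
  have hp : ∏ i, cycWt n F i = cycSign n F := by
    rw [Finset.prod_eq_single (Fin.last n)]
    · simp [cycWt]
    · intro b _ hb
      have : (b : ℕ) ≠ n := fun h => hb (Fin.ext (by simpa using h))
      simp [cycWt, this]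
    · simp
  refine ⟨1, ?_⟩
  rw [e, Matrix.det_mul, Matrix.det_permutation, Matrix.det_diagonal, hp, Equiv.Perm.sign_inv, mul_one]
  exact cycSign_mul

/-- Exchanging the points of the axes `0` and `1`. -/
def swapPairs (n : ℕ) : Fin (n + 2) ⊕ Fin (n + 2) → Fin (n + 2) ⊕ Fin (n + 2) := fun k =>
  if k = .inl 0 then .inr 0 else if k = .inr 0 then .inl 0
  else if k = .inl 1 then .inr 1 else if k = .inr 1 then .inl 1 else k

theorem exists_swap [Fintype F] (n : ℕ) :
    ∃ g : ↥(isometryGroup F (Cfsg.quadFormPlus (n + 3) F)), g ∈ Omega F (Cfsg.quadFormPlus (n + 3) F) ∧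
      ∀ k, (g : GL (Fin (n + 3) ⊕ Fin (n + 3)) F).val *ᵥ Pi.single k 1 = Pi.single (swapPairs (n + 1) k) 1 := by
  obtain ⟨B, C⟩ := exists_space_plus (F := F) (n + 3)
  set v : Fin (n + 3) → (Fin (n + 3) ⊕ Fin (n + 3) → F) := fun i => Pi.single (.inl i) 1 - Pi.single (.inr i) 1
  have hv : ∀ i, Cfsg.quadFormPlus (n + 3) F (v i) = -1 := fun i => by
    simp [v, Cfsg.quadFormPlus, Pi.single_apply]
  have hne : ∀ i, Cfsg.quadFormPlus (n + 3) F (v i) ≠ 0 := fun i => by rw [hv]; simp
  refine ⟨rI C (v 0) (hne 0) * rI C (v 1) (hne 1), ?_, fun k => ?_⟩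
  · exact rI_mul_mem_comm C (Or.inr (by simp; omega)) (hne 0) (hne 1) (by rw [hv, hv]; simp)
  have hB : ∀ i x, B (v i) x = x (.inr i) - x (.inl i) := fun i x => by
    rw [← C.polar, polar_plus_apply, Finset.sum_eq_single i]
    · simp [v]; ring
    · intro b _ hb; simp [v, Pi.single_apply, hb]
    · simp
  have act : ∀ i x, (rGL (Cfsg.quadFormPlus (n + 3) F) (v i)).val *ᵥ x = x + (x (.inr i) - x (.inl i)) • v i :=
    fun i x => by
      rw [rGL_act C (hne i), hv, hB, inv_neg, inv_one, neg_one_mul, neg_smul, sub_neg_eq_add]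
  show ((rGL _ (v 0)) * (rGL _ (v 1))).val *ᵥ _ = _
  rw [mul_act, act, act]
  have h01 : (0 : Fin (n + 3)) ≠ 1 := by simp
  funext a
  rcases k with k | k <;> by_cases k0 : k = 0 <;> by_cases k1 : k = 1 <;>
    first | (exfalso; exact h01 (k0.symm.trans k1)) | skip
  all_goals
    rcases a with a | a <;> simp [swapPairs, v, Pi.single_apply, k0, k1, h01, h01.symm] <;> split_ifs <;> simp_all

end Cfsg.Lib.Linear.TwoGen
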