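import Cfsg.Agent.Lib.Linear.TwoGen.Orth.Mono

/-!
# Conjugates of Levi elements by two root elements pointing into the complement
-/

set_option autoImplicit false
set_option linter.unusedSectionVars false

namespace Cfsg.Lib.Linear.TwoGen

open Module Cfsg.Lib.Linear.Orth
open scoped Matrix

section Emb

variable {k : ℕ} {F : Type*} [Field F]

/-- The two coordinates. -/
def incMat (F : Type*) [Field F] (p q : Fin k) : Matrix (Fin k) (Fin 2) F := fun a j => if a = ![p, q] j then 1 else 0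

theorem incMat_orth {p q : Fin k} (h : p ≠ q) : (incMat F p q)ᵀ * incMat F p q = 1 := by
  ext i j
  rw [Matrix.mul_apply]
  rw [Finset.sum_eq_single (![p, q] i)]
  · fin_cases i <;> fin_cases j <;> simp [incMat, h, h.symm]
  · intro b _ hb; simp [incMat, hb]
  · simp

/-- A two by two block on the coordinates `p` and `q`. -/
def embMat (p q : Fin k) (A : Matrix (Fin 2) (Fin 2) F) : Matrix (Fin k) (Fin k) F :=
  1 + incMat F p q * ((A - 1) * (incMat F p q)ᵀ)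

theorem embMat_mul {p q : Fin k} (h : p ≠ q) (A A' : Matrix (Fin 2) (Fin 2) F) :
    embMat p q A * embMat p q A' = embMat p q (A * A') := by
  have e := incMat_orth (F := F) h
  unfold embMat
  generalize incMat F p q = P at e ⊢
  have : (P * ((A - 1) * Pᵀ)) * (P * ((A' - 1) * Pᵀ)) = P * (((A - 1) * (A' - 1)) * Pᵀ) := by
    rw [Matrix.mul_assoc, Matrix.mul_assoc (A - 1), ← Matrix.mul_assoc Pᵀ, e, Matrix.one_mul, ← Matrix.mul_assoc (A - 1)]
  rw [Matrix.add_mul, Matrix.one_mul, Matrix.mul_add, Matrix.mul_one, this, add_assoc, ← Matrix.mul_add, ← Matrix.mul_add,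
    ← Matrix.add_mul, ← Matrix.add_mul]
  congr 3
  noncomm_ring

theorem embMat_one (p q : Fin k) : embMat p q (1 : Matrix (Fin 2) (Fin 2) F) = 1 := by
  simp [embMat]

/-- The block as a homomorphism. -/
def embGL {p q : Fin k} (h : p ≠ q) : GL (Fin 2) F →* GL (Fin k) F :=
  Units.map { toFun := embMat p q, map_one' := embMat_one p q, map_mul' := fun A B => (embMat_mul h A B).symm }

theorem embGL_det {p q : Fin k} (h : p ≠ q) (A : GL (Fin 2) F) : (embGL h A).val.det = A.val.det := by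
  show (embMat p q A.val).det = _
  rw [embMat, Matrix.det_one_add_mul_comm, Matrix.mul_assoc, incMat_orth h, Matrix.mul_one, add_sub_cancel]

theorem embGL_apply {p q : Fin k} (h : p ≠ q) (A : GL (Fin 2) F) (a i : Fin k) :
    (embGL h A).val a i =
      if a = p ∧ i = p then A.val 0 0 else if a = p ∧ i = q then A.val 0 1 else
      if a = q ∧ i = p then A.val 1 0 else if a = q ∧ i = q then A.val 1 1 else if a = i then 1 else 0 := by
  show embMat p q A.val a i = _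
  simp only [embMat, Matrix.add_apply, Matrix.mul_apply, Fin.sum_univ_two, Matrix.transpose_apply, Matrix.sub_apply,
    incMat, Matrix.cons_val_zero, Matrix.cons_val_one]
  rcases eq_or_ne a p with rfl | ap <;> rcases eq_or_ne i a with rfl | ia <;>
    simp_all [Matrix.one_apply, mul_ite, ite_mul] <;> split_ifs <;> simp_all [Ne.symm] <;> split_ifs <;> simp_all <;> ring

end Emb

variable {κ : Type} [Fintype κ] [DecidableEq κ] {n : ℕ} {F : Type*} [Field F] [Fintype F]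
  {R : (κ → F) → F} {D : LinearMap.BilinForm F (κ → F)}

local notation "Q'" => qP (n + 2) R
local notation "B'" => bP (n + 2) D
local notation "ι'" => (Fin (n + 3) ⊕ Fin (n + 3)) ⊕ κ

/-- Two root elements into the complement. -/
noncomputable def uEl (R : (κ → F) → F) (D : LinearMap.BilinForm F (κ → F)) (p q : Fin (n + 3)) (z₁ z₂ : κ → F) :
    GL ((Fin (n + 3) ⊕ Fin (n + 3)) ⊕ κ) F :=
  sGL (qP (n + 2) R) (bP (n + 2) D) (eP p) (zP z₁) * sGL (qP (n + 2) R) (bP (n + 2) D) (eP q) (zP z₂)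

theorem bP_eP_zP (p : Fin (n + 3)) (z : κ → F) : B' (eP p : ι' → F) (zP z) = 0 := by
  rw [bP_eP]; simp [zP]

theorem uEl_mem (C : Space R D) (p q : Fin (n + 3)) (z₁ z₂ : κ → F) :
    uEl R D p q z₁ z₂ ∈ Cfsg.Geo.omegaGL Q' :=
  mul_mem (sGL_mem_omega C (by omega) (qP_eP C p) (bP_eP_zP p z₁))
    (sGL_mem_omega C (by omega) (qP_eP C q) (bP_eP_zP q z₂))

/-- One root element into the complement, by coordinates. -/
theorem sGL_zP_coord (C : Space R D) (p : Fin (n + 3)) (z : κ → F) (x : ι' → F) :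
    (∀ i, ((sGL Q' B' (eP p) (zP z)).val *ᵥ x) (.inl (.inr i)) = x (.inl (.inr i))) ∧
    ((sGL Q' B' (eP p) (zP z)).val *ᵥ x) ∘ Sum.inr = x ∘ Sum.inr + x (.inl (.inr p)) • z ∧
    (x (.inl (.inr p)) = 0 → x ∘ Sum.inr = 0 → (sGL Q' B' (eP p) (zP z)).val *ᵥ x = x) := by
  have e := sGL_act (space_qP C) (qP_eP C p) (bP_eP_zP p z) x
  refine ⟨fun i => ?_, ?_, fun h0 hk => ?_⟩
  · rw [e, bP_eP]; simp [zP, eP]
  · rw [e, bP_eP]; funext j; simp [zP, eP]
  · rw [e, bP_eP, h0, bP_zP, hk]; simp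

theorem uEl_coord (C : Space R D) (p q : Fin (n + 3)) (z₁ z₂ : κ → F) (x : ι' → F) :
    (∀ i, ((uEl R D p q z₁ z₂).val *ᵥ x) (.inl (.inr i)) = x (.inl (.inr i))) ∧
    ((uEl R D p q z₁ z₂).val *ᵥ x) ∘ Sum.inr = x ∘ Sum.inr + x (.inl (.inr p)) • z₁ + x (.inl (.inr q)) • z₂ ∧
    (x (.inl (.inr p)) = 0 → x (.inl (.inr q)) = 0 → x ∘ Sum.inr = 0 → (uEl R D p q z₁ z₂).val *ᵥ x = x) := by
  rw [uEl, mul_act]
  obtain ⟨a1, a2, a3⟩ := sGL_zP_coord C q z₂ x
  obtain ⟨b1, b2, b3⟩ := sGL_zP_coord C p z₁ ((sGL Q' B' (eP q) (zP z₂)).val *ᵥ x)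
  refine ⟨fun i => by rw [b1, a1], by rw [b2, a2, a1]; abel, fun hp hq hk => ?_⟩
  rw [a3 hq hk] at b3 ⊢
  exact b3 hp hk

/-- A Levi element on the axes. -/
def levP (A : GL (Fin (n + 3)) F) : GL ((Fin (n + 3) ⊕ Fin (n + 3)) ⊕ κ) F := inlGL κ (levGL (n + 3) A)

theorem levP_mem (A : GL (Fin (n + 3)) F) (hA : IsSquare A.val.det) :
    (levP A : GL ι' F) ∈ Cfsg.Geo.omegaGL Q' :=
  inlGL_mem_omega (g := lev (n + 3) A) ((lev_mem_omega_iff (by omega) (Or.inr (by omega)) A).2 hA)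

theorem levP_act (A : GL (Fin (n + 3)) F) (x : ι' → F) :
    (∀ i, ((levP A).val *ᵥ x) (.inl (.inl i)) = (A.val *ᵥ fun j => x (.inl (.inl j))) i) ∧
    (∀ i, ((levP A).val *ᵥ x) (.inl (.inr i)) =
      ((A⁻¹ : GL (Fin (n + 3)) F).valᵀ *ᵥ fun j => x (.inl (.inr j))) i) ∧
    ((levP A).val *ᵥ x) ∘ Sum.inr = x ∘ Sum.inr := by
  have e : (levP A : GL ι' F).val *ᵥ x = Sum.elim ((levGL (n + 3) A).val *ᵥ (x ∘ Sum.inl)) (x ∘ Sum.inr) := by
    conv_lhs => rw [← Sum.elim_comp_inl_inr x]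
    exact inlGL_act _ _ _
  rw [e]
  refine ⟨fun i => ?_, fun i => ?_, by simp⟩ <;>
    show (Matrix.fromBlocks A.val 0 0 (A⁻¹ : GL (Fin (n + 3)) F).valᵀ *ᵥ _) _ = _ <;>
    rw [Matrix.fromBlocks_mulVec] <;> simp [Function.comp_def]

/-- The conjugated Levi element. -/
noncomputable def lEl (R : (κ → F) → F) (D : LinearMap.BilinForm F (κ → F)) (p q : Fin (n + 3)) (z₁ z₂ : κ → F)
    (A : GL (Fin (n + 3)) F) : GL ((Fin (n + 3) ⊕ Fin (n + 3)) ⊕ κ) F :=
  uEl R D p q z₁ z₂ * levP A * (uEl R D p q z₁ z₂)⁻¹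

theorem lEl_mem (C : Space R D) (p q : Fin (n + 3)) (z₁ z₂ : κ → F) {A : GL (Fin (n + 3)) F}
    (hA : IsSquare A.val.det) : lEl R D p q z₁ z₂ A ∈ Cfsg.Geo.omegaGL Q' :=
  mul_mem (mul_mem (uEl_mem C p q z₁ z₂) (levP_mem A hA)) (inv_mem (uEl_mem C p q z₁ z₂))

theorem lEl_pow (p q : Fin (n + 3)) (z₁ z₂ : κ → F) {A : GL (Fin (n + 3)) F} {N : ℕ} (hA : A ^ N = 1) :
    lEl R D p q z₁ z₂ A ^ N = 1 := by
  rw [lEl, conj_pow, levP, ← map_pow, ← map_pow, hA, map_one, map_one, mul_one, mul_inv_cancel]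

/-- The complement part of an image. -/
theorem lEl_inr (C : Space R D) (p q : Fin (n + 3)) (z₁ z₂ : κ → F) (A : GL (Fin (n + 3)) F) (x : ι' → F) :
    ((lEl R D p q z₁ z₂ A).val *ᵥ x) ∘ Sum.inr = x ∘ Sum.inr +
      (((A⁻¹ : GL (Fin (n + 3)) F).valᵀ *ᵥ fun j => x (.inl (.inr j))) p - x (.inl (.inr p))) • z₁ +
      (((A⁻¹ : GL (Fin (n + 3)) F).valᵀ *ᵥ fun j => x (.inl (.inr j))) q - x (.inl (.inr q))) • z₂ := by
  obtain ⟨c1, c2, -⟩ := uEl_coord C p q z₁ z₂ ((uEl R D p q z₁ z₂)⁻¹.val *ᵥ x)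
  rw [act_inv] at c1 c2
  obtain ⟨-, m2, m3⟩ := levP_act (κ := κ) A ((uEl R D p q z₁ z₂)⁻¹.val *ᵥ x)
  rw [lEl, mul_act, mul_act, (uEl_coord C p q z₁ z₂ _).2.1, m3, m2, m2]
  simp only [← c1]
  nth_rw 1 [c2]
  simp only [← c1]
  module

/-- Vectors the two root elements fix. -/
theorem lEl_of_fixed (C : Space R D) (p q : Fin (n + 3)) (z₁ z₂ : κ → F) (A : GL (Fin (n + 3)) F) {x : ι' → F}
    (hk : x ∘ Sum.inr = 0) (hp : x (.inl (.inr p)) = 0) (hq : x (.inl (.inr q)) = 0)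
    (hp' : ((levP A).val *ᵥ x) (.inl (.inr p)) = 0) (hq' : ((levP A).val *ᵥ x) (.inl (.inr q)) = 0) :
    (lEl R D p q z₁ z₂ A).val *ᵥ x = (levP A).val *ᵥ x := by
  have h := (uEl_coord C p q z₁ z₂ x).2.2 hp hq hk
  have h' : (uEl R D p q z₁ z₂)⁻¹.val *ᵥ x = x := by
    nth_rw 1 [← h]; exact inv_act _ _
  rw [lEl, mul_act, mul_act, h']
  exact (uEl_coord C p q z₁ z₂ _).2.2 hp' hq' ((levP_act A x).2.2.trans hk)

/-- The image of a first point. -/
theorem lEl_eP (C : Space R D) (p q : Fin (n + 3)) (z₁ z₂ : κ → F) (A : GL (Fin (n + 3)) F) (i : Fin (n + 3)) :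
    (lEl R D p q z₁ z₂ A).val *ᵥ (eP i : ι' → F) = ∑ a, A.val a i • eP a := by
  have e : (levP A).val *ᵥ (eP i : ι' → F) = ∑ a, A.val a i • eP a := by
    obtain ⟨l1, l2, l3⟩ := levP_act (κ := κ) A (eP i : ι' → F)
    funext j
    rcases j with (j | j) | j
    · rw [l1]
      simp [eP, Finset.sum_apply, Pi.single_apply, Matrix.mulVec, dotProduct]
    · rw [l2]
      simp [eP, Finset.sum_apply, Pi.single_apply, Matrix.mulVec, dotProduct]
    · have := congrFun l3 j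
      simp only [Function.comp_apply] at this
      rw [this]; simp [eP, Finset.sum_apply]
  rw [lEl_of_fixed C p q z₁ z₂ A (funext fun j => by simp [eP]) (by simp [eP]) (by simp [eP])
    (by rw [e]; simp [eP, Finset.sum_apply]) (by rw [e]; simp [eP, Finset.sum_apply]), e]

end Cfsg.Lib.Linear.TwoGen
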