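import Cfsg.Agent.Lib.Linear.TwoGen.Orth.Frame

/-!
# The monomial generator and the criterion: two neighbouring axes and the complement suffice
-/

set_option autoImplicit false
set_option linter.unusedSectionVars false

namespace Cfsg.Lib.Linear.TwoGen

open Module Cfsg.Lib.Linear.Orth
open scoped Matrix

variable {κ : Type} [Fintype κ] [DecidableEq κ] {n : ℕ} {F : Type*} [Field F]
  {R : (κ → F) → F} {D : LinearMap.BilinForm F (κ → F)}

theorem eP_elim (i : Fin (n + 1)) :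
    (eP i : (Fin (n + 1) ⊕ Fin (n + 1)) ⊕ κ → F) = Sum.elim (Pi.single (.inl i) 1) 0 := by
  funext j; rcases j with j | j <;> simp [eP, Pi.single_apply]

theorem fP_elim (i : Fin (n + 1)) :
    (fP i : (Fin (n + 1) ⊕ Fin (n + 1)) ⊕ κ → F) = Sum.elim (Pi.single (.inr i) 1) 0 := by
  funext j; rcases j with j | j <;> simp [fP, Pi.single_apply]

theorem inlGL_act {ι : Type} [Fintype ι] [DecidableEq ι] (g : GL ι F) (x : ι → F) (z : κ → F) :
    (inlGL κ g).val *ᵥ Sum.elim x z = Sum.elim (g.val *ᵥ x) z := by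
  rw [inlGL_val, Matrix.fromBlocks_mulVec]; simp

theorem inlGL_mem_omega {g : ↥(isometryGroup F (Cfsg.quadFormPlus (n + 1) F))}
    (hg : g ∈ Omega F (Cfsg.quadFormPlus (n + 1) F)) :
    inlGL κ (g : GL (Fin (n + 1) ⊕ Fin (n + 1)) F) ∈ Cfsg.Geo.omegaGL (qP n R) :=
  ⟨inlI _ R g, map_mem_commutator _ hg, rfl⟩

theorem sGL_mem_omega [Finite F] (C : Space R D) (hn : 2 ≤ n) {u a : (Fin (n + 1) ⊕ Fin (n + 1)) ⊕ κ → F}
    (hu : qP n R u = 0) (hua : bP n D u a = 0) : sGL (qP n R) (bP n D) u a ∈ Cfsg.Geo.omegaGL (qP n R) := by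
  rw [omegaGL_eq (space_qP C) (by simp; omega)]
  exact sGL_mem_root trivial trivial hu hua

theorem omegaGL_le_iso : Cfsg.Geo.omegaGL (qP n R) ≤ isometryGroup F (qP n R) := by
  rintro _ ⟨g, -, rfl⟩; exact g.2

theorem cycPerm_mid {i : ℕ} (h0 : 1 ≤ i) (hi : i < n) :
    cycPerm n ⟨i, by omega⟩ = ⟨i + 1, by omega⟩ := by
  obtain ⟨j, rfl⟩ : ∃ j, i = j + 1 := ⟨i - 1, by omega⟩
  have e : (⟨j + 1, by omega⟩ : Fin (n + 1)) = (⟨j, by omega⟩ : Fin n).succ := rfl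
  rw [e, cycPerm_succ]
  obtain ⟨k, rfl⟩ : ∃ k, n = k + 1 := ⟨n - 1, by omega⟩
  apply Fin.ext
  simp only [Fin.val_succ, coe_finRotate]
  rw [if_neg (fun h => by simp [Fin.ext_iff] at h; omega)]

theorem cycPerm_last {m : ℕ} : cycPerm (m + 1) (Fin.last (m + 1)) = 1 := by
  rw [← Fin.succ_last, cycPerm_succ, finRotate_last]; rfl

variable [Fintype F]

/-- The monomial generator. -/
noncomputable def monW (κ : Type) [Fintype κ] [DecidableEq κ] (n : ℕ) (F : Type*) [Field F] [Fintype F] :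
    GL ((Fin (n + 3) ⊕ Fin (n + 3)) ⊕ κ) F :=
  inlGL κ (((exists_swap (F := F) n).choose : GL (Fin (n + 3) ⊕ Fin (n + 3)) F) * levGL (n + 3) (cycGL (n + 2) F))

theorem monW_mem : monW κ n F ∈ Cfsg.Geo.omegaGL (qP (n + 2) R) :=
  inlGL_mem_omega (g := (exists_swap (F := F) n).choose * lev (n + 3) (cycGL (n + 2) F))
    (mul_mem (exists_swap (F := F) n).choose_spec.1
      ((lev_mem_omega_iff (by omega) (Or.inr (by omega)) _).2 cycGL_det))

theorem levGL_cyc (m : ℕ) (x : Fin (m + 1) ⊕ Fin (m + 1)) :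
    (levGL (m + 1) (cycGL m F)).val *ᵥ Pi.single x (1 : F) =
      Sum.elim (fun i => cycWt m F i • (Pi.single (.inl (cycPerm m i)) 1 : Fin (m + 1) ⊕ Fin (m + 1) → F))
        (fun i => cycWt m F i • Pi.single (.inr (cycPerm m i)) 1) x := by
  show Matrix.fromBlocks (cycMat m F) 0 0 ((cycMat m F)ᵀ)ᵀ *ᵥ _ = _
  rw [Matrix.transpose_transpose, Matrix.mulVec_single_one]
  funext a
  rcases x with x | x <;> rcases a with a | a <;> simp [Matrix.col_apply, cycMat, Pi.single_apply]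

theorem monW_eP (i : Fin (n + 3)) :
    (monW κ n F).val *ᵥ (eP i : (Fin (n + 3) ⊕ Fin (n + 3)) ⊕ κ → F) =
      cycWt (n + 2) F i • Pi.single (Sum.inl (swapPairs (n + 1) (.inl (cycPerm (n + 2) i)))) 1 := by
  rw [eP_elim, monW, inlGL_act, Units.val_mul, ← Matrix.mulVec_mulVec, levGL_cyc, Sum.elim_inl, Matrix.mulVec_smul,
    (exists_swap (F := F) n).choose_spec.2]
  funext a
  rcases a with a | a <;> simp [Pi.single_apply]

theorem monW_fP (i : Fin (n + 3)) :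
    (monW κ n F).val *ᵥ (fP i : (Fin (n + 3) ⊕ Fin (n + 3)) ⊕ κ → F) =
      cycWt (n + 2) F i • Pi.single (Sum.inl (swapPairs (n + 1) (.inr (cycPerm (n + 2) i)))) 1 := by
  rw [fP_elim, monW, inlGL_act, Units.val_mul, ← Matrix.mulVec_mulVec, levGL_cyc, Sum.elim_inr, Matrix.mulVec_smul,
    (exists_swap (F := F) n).choose_spec.2]
  funext a
  rcases a with a | a <;> simp [Pi.single_apply]

theorem monW_zP (z : κ → F) :
    (monW κ n F).val *ᵥ (zP z : (Fin (n + 3) ⊕ Fin (n + 3)) ⊕ κ → F) = zP z := by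
  rw [zP, monW, inlGL_act, Matrix.mulVec_zero]

theorem monW_e0 : (monW κ n F).val *ᵥ (eP 0 : (Fin (n + 3) ⊕ Fin (n + 3)) ⊕ κ → F) = fP 0 := by
  rw [monW_eP, cycPerm_zero, cycWt, if_neg (by simp), one_smul]; rfl

theorem monW_f0 : (monW κ n F).val *ᵥ (fP 0 : (Fin (n + 3) ⊕ Fin (n + 3)) ⊕ κ → F) = eP 0 := by
  rw [monW_fP, cycPerm_zero, cycWt, if_neg (by simp), one_smul]
  rfl

theorem monW_step {i : ℕ} (h0 : 1 ≤ i) (hi : i < n + 2) :
    (monW κ n F).val *ᵥ (eP ⟨i, by omega⟩ : (Fin (n + 3) ⊕ Fin (n + 3)) ⊕ κ → F) = eP ⟨i + 1, by omega⟩ ∧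
    (monW κ n F).val *ᵥ (fP ⟨i, by omega⟩ : (Fin (n + 3) ⊕ Fin (n + 3)) ⊕ κ → F) = fP ⟨i + 1, by omega⟩ := by
  have a : (⟨i + 1, by omega⟩ : Fin (n + 3)) ≠ 0 := fun h => by simp [Fin.ext_iff] at h
  have b : (⟨i + 1, by omega⟩ : Fin (n + 3)) ≠ 1 := fun h => by simp [Fin.ext_iff] at h; omega
  constructor
  · rw [monW_eP, cycPerm_mid h0 hi, cycWt, if_neg (by simp; omega), one_smul]
    simp [swapPairs, a, b, eP]
  · rw [monW_fP, cycPerm_mid h0 hi, cycWt, if_neg (by simp; omega), one_smul]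
    simp [swapPairs, a, b, fP]

theorem monW_wrap :
    (monW κ n F).val *ᵥ (eP (Fin.last (n + 2)) : (Fin (n + 3) ⊕ Fin (n + 3)) ⊕ κ → F) =
      cycSign (n + 2) F • fP 1 ∧
    (monW κ n F).val *ᵥ (fP (Fin.last (n + 2)) : (Fin (n + 3) ⊕ Fin (n + 3)) ⊕ κ → F) =
      cycSign (n + 2) F • eP 1 := by
  constructor
  · rw [monW_eP, cycPerm_last, cycWt, if_pos (by simp)]
    simp [swapPairs, fP]
  · rw [monW_fP, cycPerm_last, cycWt, if_pos (by simp)]
    simp [swapPairs, eP]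

variable {H : Subgroup (GL ((Fin (n + 3) ⊕ Fin (n + 3)) ⊕ κ) F)}

local notation "Q'" => qP (n + 2) R
local notation "B'" => bP (n + 2) D

/-- Both points of the axis `0` work along all other axes. -/
theorem inC_axes (C : Space R D) (hH : H ≤ isometryGroup F Q') (hw : monW κ n F ∈ H)
    (h1 : InC Q' B' H (eP 0) (eP 1)) (h2 : InC Q' B' H (eP 0) (eP ⟨2, by omega⟩)) (i : Fin (n + 3)) (hi : i ≠ 0) :
    InC Q' B' H (eP 0) (eP i) ∧ InC Q' B' H (eP 0) (fP i) ∧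
      InC Q' B' H (fP 0) (eP i) ∧ InC Q' B' H (fP 0) (fP i) := by
  have CQ := space_qP (n := n + 2) C
  set G := monW κ n F
  have hstep := fun (j : ℕ) (a : 1 ≤ j) (b : j < n + 2) => monW_step (κ := κ) (F := F) a b
  have hf1 : InC Q' B' H (fP 0) (eP 1) := by
    refine InC.map_inv CQ hH hw ?_
    rw [monW_f0, show (1 : Fin (n + 3)) = ⟨1, by omega⟩ from rfl, (hstep 1 le_rfl (by omega)).1]
    exact h2
  have fwd : ∀ {x y}, G.val *ᵥ x = y → InC Q' B' H (eP 0) x ∧ InC Q' B' H (fP 0) x →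
      InC Q' B' H (eP 0) y ∧ InC Q' B' H (fP 0) y := by
    intro x y e h
    refine ⟨?_, ?_⟩
    · have := h.2.map CQ hH hw
      rwa [monW_f0, e] at this
    · have := h.1.map CQ hH hw
      rwa [monW_e0, e] at this
  have heall : ∀ j, 1 ≤ j → ∀ hj : j < n + 3,
      InC Q' B' H (eP 0) (eP ⟨j, hj⟩) ∧ InC Q' B' H (fP 0) (eP ⟨j, hj⟩) := by
    intro j hj
    induction j, hj using Nat.le_induction with
    | base => exact fun hj => ⟨h1, hf1⟩
    | succ j hj ih => exact fun hj' => fwd (hstep j hj (by omega)).1 (ih (by omega))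
  have hF1 : InC Q' B' H (eP 0) (fP 1) ∧ InC Q' B' H (fP 0) (fP 1) := by
    have h := fwd monW_wrap.1 (heall (n + 2) (by omega) (by omega))
    exact ⟨h.1.of_smul cycSign_ne_zero, h.2.of_smul cycSign_ne_zero⟩
  have hfall : ∀ j, 1 ≤ j → ∀ hj : j < n + 3,
      InC Q' B' H (eP 0) (fP ⟨j, hj⟩) ∧ InC Q' B' H (fP 0) (fP ⟨j, hj⟩) := by
    intro j hj
    induction j, hj using Nat.le_induction with
    | base => exact fun hj => hF1
    | succ j hj ih => exact fun hj' => fwd (hstep j hj (by omega)).2 (ih (by omega))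
  have hpos : 1 ≤ (i : ℕ) := Nat.one_le_iff_ne_zero.2 fun h => hi (Fin.ext (by simpa using h))
  exact ⟨(heall i hpos i.isLt).1, (hfall i hpos i.isLt).1, (heall i hpos i.isLt).2, (hfall i hpos i.isLt).2⟩

/-- A vector orthogonal to `e₀` without complement part is reached. -/
theorem inC_of_axes (C : Space R D) (hH : H ≤ isometryGroup F Q') (hw : monW κ n F ∈ H)
    (h1 : InC Q' B' H (eP 0) (eP 1)) (h2 : InC Q' B' H (eP 0) (eP ⟨2, by omega⟩))
    {a : (Fin (n + 3) ⊕ Fin (n + 3)) ⊕ κ → F} (ha : B' (eP 0) a = 0) :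
    InC Q' B' H (eP 0) (a - zP (a ∘ Sum.inr)) := by
  have CQ := space_qP (n := n + 2) C
  have h0 : a (.inl (.inr 0)) = 0 := by rwa [bP_eP] at ha
  rw [show a - zP (a ∘ Sum.inr) = (∑ i, a (.inl (.inl i)) • eP i) + ∑ i, a (.inl (.inr i)) • fP i by
    nth_rw 1 [decomp a]; abel]
  show _ ∈ inCSub CQ H (qP_eP C 0)
  refine add_mem (Submodule.sum_mem _ fun i _ => ?_) (Submodule.sum_mem _ fun i _ => ?_)
  · refine Submodule.smul_mem _ _ ?_
    rcases eq_or_ne i 0 with rfl | hi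
    · exact InC.self CQ (qP_eP C 0)
    · exact (inC_axes C hH hw h1 h2 i hi).1
  · rcases eq_or_ne i 0 with rfl | hi
    · rw [h0, zero_smul]; exact zero_mem _
    · exact Submodule.smul_mem _ _ (inC_axes C hH hw h1 h2 i hi).2.1

/-- The complement part of a reached vector is reached. -/
theorem inC_zP_of_mem (C : Space R D) (hH : H ≤ isometryGroup F Q') (hw : monW κ n F ∈ H)
    (h1 : InC Q' B' H (eP 0) (eP 1)) (h2 : InC Q' B' H (eP 0) (eP ⟨2, by omega⟩))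
    {a : (Fin (n + 3) ⊕ Fin (n + 3)) ⊕ κ → F} (ha : InC Q' B' H (eP 0) a) :
    InC Q' B' H (eP 0) (zP (a ∘ Sum.inr)) := by
  simpa using ha.sub (space_qP C) (inC_of_axes C hH hw h1 h2 ha.2.1)

/-- The criterion. -/
theorem omega_le_of_axes (C : Space R D) (hH : H ≤ isometryGroup F Q') (hw : monW κ n F ∈ H)
    (h1 : InC Q' B' H (eP 0) (eP 1)) (h2 : InC Q' B' H (eP 0) (eP ⟨2, by omega⟩))
    (hz : ∀ z : κ → F, InC Q' B' H (eP 0) (zP z)) : Cfsg.Geo.omegaGL Q' ≤ H := by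
  refine omega_le_of_centre (space_qP C) (by simp; omega) hH (qP_eP C 0) (fun a ha => ?_) hw ?_
  · simpa using (inC_of_axes C hH hw h1 h2 ha).add (space_qP C) (hz (a ∘ Sum.inr))
  · rw [monW_e0, bP_eP]; simp [fP]

end Cfsg.Lib.Linear.TwoGen
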