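import Cfsg.Agent.Lib.Linear.TwoGen.Orth.Big

/-!
# Two generators of `Ω` with exactly three axes

Over fields with at least four elements the conjugated element is a torus element, over the fields with two and three
elements a block on the axes `0`, `1`, which fixes the root element on that line.
-/

set_option autoImplicit false
set_option linter.unusedSectionVars false

namespace Cfsg.Lib.Linear.TwoGen

open Module Cfsg.Lib.Linear.Orth
open scoped Matrix

variable {κ : Type} [Fintype κ] [DecidableEq κ] {F : Type*} [Field F] [Fintype F]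
  {R : (κ → F) → F} {D : LinearMap.BilinForm F (κ → F)}

local notation "Q'" => qP 2 R
local notation "B'" => bP 2 D
local notation "ι'" => (Fin 3 ⊕ Fin 3) ⊕ κ


theorem wStep : (monW κ 0 F).val *ᵥ (eP 1 : ι' → F) = eP 2 ∧ (monW κ 0 F).val *ᵥ (fP 1 : ι' → F) = fP 2 :=
  monW_step (n := 0) le_rfl (by omega)

/-- A root element with two first axes' points spreads over the axes. -/
theorem three_axes {H : Subgroup (GL ι' F)} (C : Space R D) (hH : H ≤ isometryGroup F Q') (hw : monW κ 0 F ∈ H)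
    (h : InC Q' B' H (fP 0) (eP 2)) :
    InC Q' B' H (eP 0) (eP 1) ∧ InC Q' B' H (eP 0) (eP 2) := by
  have CQ := space_qP (n := 2) C
  have hE1 : InC Q' B' H (eP 0) (eP 1) := by
    refine InC.map_inv CQ hH hw ?_
    rw [monW_e0, wStep.1]
    exact h
  refine ⟨hE1, ?_⟩
  have hF1 : InC Q' B' H (eP 0) (fP 1) := by
    have := h.map CQ hH hw
    rw [monW_f0, show (2 : Fin 3) = Fin.last 2 from rfl, monW_wrap.1] at this
    exact this.of_smul cycSign_ne_zero
  have r1 := (h.rpair (qP_eP C 2)).rule CQ hH (hF1.rpair (qP_fP C 1)) (by rw [bP_eP]; simp [eP])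
    (by rw [bP_eP]; simp [fP]) (by rw [bP_fP]; simp [fP]) (by rw [bP_fP]; simp [eP])
  have r2 := (r1.symm CQ).rule CQ hH ((hE1.rpair (qP_eP C 1)).symm CQ) (by rw [bP_eP]; simp [eP])
    (by rw [bP_eP]; simp [eP]) (by rw [bP_fP]; simp [eP]) (by rw [bP_fP]; simp [eP])
  exact inC_of_rpair (r2.symm CQ)

theorem two_gen_small_torus (C : Space R D) (γ : Fˣ) (hγ2 : (γ : F) ^ 2 ≠ 1)
    (hγ : Subfield.closure ({(γ : F)} : Set F) = ⊤) {N : ℕ} (hN : γ ^ N = 1) (hNp : (N : F) ≠ 0)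
    (z₁ z₂ : κ → F) (hz : ∀ z : κ → F, ∃ s t : F, z = s • z₁ + t • z₂) :
    ∃ x y : ↥(Omega F Q'), Subgroup.closure ({x, y} : Set _) = ⊤ := by
  set d : Fin 3 → Fˣ := ![γ, γ⁻¹, γ ^ 2] with hd
  set A : GL (Fin 3) F := dUnit d with hAd
  have hdet : IsSquare A.val.det := by
    refine ⟨(γ : F), ?_⟩
    simp [A, dUnit, hd, Fin.prod_univ_three, sq]
  have hpow : A ^ N = 1 := by
    have key : ∀ k : ℕ, A ^ k = dUnit (fun i => d i ^ k) := fun k => by
      induction k with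
      | zero => exact Units.ext (by simp [dUnit])
      | succ k ih => rw [pow_succ, ih, hAd, dUnit_mul]; simp only [pow_succ]
    rw [key]
    refine Units.ext ?_
    have : ∀ i, d i ^ N = 1 := fun i => by
      fin_cases i <;> simp [hd, inv_pow, hN]
      rw [← pow_mul, mul_comm, pow_mul, hN, one_pow]
    simp [dUnit, this]
  have CQ := space_qP (n := 2) C
  set l := lEl (n := 0) R D 2 1 z₁ z₂ A with hl
  set w := monW κ 0 F
  have h01 : B' (eP 0 : ι' → F) (eP 1) = 0 := by rw [bP_eP]; simp [eP]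
  have hTm := sGL_mem_omega (n := 2) C le_rfl (qP_eP C 0) h01
  have hlm : l ∈ Cfsg.Geo.omegaGL Q' := lEl_mem C 2 1 z₁ z₂ hdet
  have hwm : w ∈ Cfsg.Geo.omegaGL Q' := monW_mem
  refine two_gen_of_le (isometryGroup F Q').subtype_injective (mul_mem hTm hlm) hwm ?_
  set H := Subgroup.closure ({sGL Q' B' (eP 0) (eP 1) * l, w} : Set _)
  have hH : H ≤ isometryGroup F Q' := by
    rw [Subgroup.closure_le]
    rintro g (rfl | rfl)
    exacts [omegaGL_le_iso (mul_mem hTm hlm), omegaGL_le_iso hwm]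
  have hwH : w ∈ H := Subgroup.subset_closure (Set.mem_insert_of_mem _ rfl)
  have le : ∀ i : Fin 3, l.val *ᵥ (eP i : ι' → F) = (d i : F) • eP i := fun i => by
    rw [hl, lEl_eP C, Finset.sum_eq_single i]
    · simp [A, dUnit]
    · intro a _ ha; simp [A, dUnit, ha]
    · simp
  have inv_val : (A⁻¹ : GL (Fin 3) F).val = Matrix.diagonal fun i => (((d i)⁻¹ : Fˣ) : F) := rfl
  have f : ∀ i : Fin 3, (fun j => (fP i : ι' → F) (.inl (.inr j))) = Pi.single i 1 := fun i => funext fun j => by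
    simp [fP, Pi.single_apply]
  have k : ∀ i : Fin 3, ((fP i : ι' → F) ∘ Sum.inr) = 0 := fun i => funext fun j => by simp [fP]
  have lk : ∀ i : Fin 3, (l.val *ᵥ (fP i : ι' → F)) ∘ Sum.inr =
      (if i = 2 then ((((d i)⁻¹ : Fˣ) : F) - 1) else 0) • z₁ + (if i = 1 then ((((d i)⁻¹ : Fˣ) : F) - 1) else 0) • z₂ := by
    intro i
    rw [hl, lEl_inr C, k, f, Matrix.mulVec_single_one, inv_val, zero_add]
    fin_cases i <;> simp [fP]
  have lf0 : l.val *ᵥ (fP 0 : ι' → F) = (((d 0)⁻¹ : Fˣ) : F) • fP 0 := by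
    have e : (levP A).val *ᵥ (fP 0 : ι' → F) = (((d 0)⁻¹ : Fˣ) : F) • fP 0 := by
      obtain ⟨l1, l2, l3⟩ := levP_act (κ := κ) A (fP 0 : ι' → F)
      have g : (fun j => (fP 0 : ι' → F) (.inl (.inl j))) = 0 := funext fun j => by simp [fP]
      funext j
      rcases j with (j | j) | j
      · rw [l1, g, Matrix.mulVec_zero]; simp [fP]
      · rw [l2, f, Matrix.mulVec_single_one, inv_val]
        rcases eq_or_ne j 0 with rfl | hj
        · simp [fP]
        · simp [fP, hj]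
      · rw [show ((levP A).val *ᵥ (fP 0 : ι' → F)) (.inr j) = (fP 0 : ι' → F) (.inr j) from congrFun l3 j]
        simp [fP]
    rw [hl, lEl_of_fixed C 2 1 z₁ z₂ A (k 0) (by simp [fP]) (by simp [fP]) (by rw [e]; simp [fP])
      (by rw [e]; simp [fP]), e]
  obtain ⟨hTH, hlH⟩ := split_gen (H := H) CQ (qP_eP C 0) h01 (omegaGL_le_iso hlm)
    ⟨(γ : F), ((γ⁻¹ : Fˣ) : F), by simp, by rw [le]; simp [hd], by rw [le]; simp [hd]⟩
    (lEl_pow 2 1 z₁ z₂ hpow) hNp (Subgroup.subset_closure (Set.mem_insert _ _))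
  have h02 : B' (fP 0 : ι' → F) (eP 2) = 0 := by rw [bP_fP]; simp [eP]
  have hfp : sGL Q' B' (fP 0) (eP 2) ∈ H := by
    have := mul_mem (mul_mem hwH hTH) (inv_mem hwH)
    rwa [sGL_conj CQ (qP_eP C 0) h01 (omegaGL_le_iso hwm), monW_e0, wStep.1] at this
  have hF0 : InC Q' B' H (fP 0) (eP 2) :=
    inC_of_scaled CQ hH (qP_fP C 0) h02 hfp hlH lf0 (le 2) (by simpa [hd, sq] using hγ)
  obtain ⟨hE1, hE2⟩ := three_axes C hH hwH hF0
  refine omega_le_of_axes C hH hwH hE1 hE2 fun z => ?_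
  have hK : ∀ i : Fin 3, i ≠ 0 → InC Q' B' H (eP 0) (zP ((l.val *ᵥ fP i) ∘ Sum.inr)) := fun i hi => by
    have := ((inC_axes C hH hwH hE1 hE2 i hi).2.1).map CQ hH hlH
    rw [le 0] at this
    have h' := this.centre_smul CQ (r := ((d 0 : Fˣ) : F)⁻¹) (inv_ne_zero (Units.ne_zero _))
    rw [smul_smul, inv_mul_cancel₀ (Units.ne_zero _), one_smul] at h'
    exact inC_zP_of_mem C hH hwH hE1 hE2 h'
  obtain ⟨s, t, rfl⟩ := hz z
  have h1 := hK 2 (by decide)
  have h2 := hK 1 (by decide)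
  rw [lk] at h1 h2
  simp [hd] at h1 h2
  have c1 : ((γ : F) ^ 2)⁻¹ - 1 ≠ 0 := sub_ne_zero.2 fun e => hγ2 (inv_eq_one.1 e)
  have c2 : (γ : F) - 1 ≠ 0 := sub_ne_zero.2 fun e => hγ2 (by rw [e, one_pow])
  convert (h1.smul (s / (((γ : F) ^ 2)⁻¹ - 1))).add CQ (h2.smul (t / ((γ : F) - 1))) using 1
  funext j
  rcases j with j | j
  · simp [zP]
  · simp only [zP, Sum.elim_inr, Pi.add_apply, Pi.smul_apply, smul_eq_mul]
    field_simp

theorem two_gen_small_prime (C : Space R D) (hP : Subfield.closure ({1} : Set F) = ⊤) (A : GL (Fin 2) F)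
    (hA : A.val.det = 1) (h00 : A.val 0 0 = 0) (h10 : A.val 1 0 = 1) (h2d : (2 : F) - A.val 1 1 ≠ 0)
    {N : ℕ} (hN : A ^ N = 1) (hNp : (N : F) ≠ 0)
    (z₁ z₂ : κ → F) (hz : ∀ z : κ → F, ∃ s t : F, z = s • z₁ + t • z₂) :
    ∃ x y : ↥(Omega F Q'), Subgroup.closure ({x, y} : Set _) = ⊤ := by
  have h01' : A.val 0 1 = -1 := by
    rw [Matrix.det_fin_two, h00, h10] at hA
    linear_combination -hA
  have CQ := space_qP (n := 2) C
  have hpq : (0 : Fin 3) ≠ 1 := by decide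
  set l := lEl (n := 0) R D 0 1 z₁ z₂ (embGL hpq A) with hl
  set w := monW κ 0 F
  have h01 : B' (eP 0 : ι' → F) (eP 1) = 0 := by rw [bP_eP]; simp [eP]
  have hTm := sGL_mem_omega (n := 2) C le_rfl (qP_eP C 0) h01
  have hlm : l ∈ Cfsg.Geo.omegaGL Q' := lEl_mem C 0 1 z₁ z₂ (by rw [embGL_det, hA]; exact IsSquare.one)
  have hwm : w ∈ Cfsg.Geo.omegaGL Q' := monW_mem
  refine two_gen_of_le (isometryGroup F Q').subtype_injective (mul_mem hTm hlm) hwm ?_
  set H := Subgroup.closure ({sGL Q' B' (eP 0) (eP 1) * l, w} : Set _)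
  have hH : H ≤ isometryGroup F Q' := by
    rw [Subgroup.closure_le]
    rintro g (rfl | rfl)
    exacts [omegaGL_le_iso (mul_mem hTm hlm), omegaGL_le_iso hwm]
  have hwH : w ∈ H := Subgroup.subset_closure (Set.mem_insert_of_mem _ rfl)
  obtain ⟨le0, le1, -⟩ := lEl_emb_eP C hpq z₁ z₂ A
  simp only [h00, h10, zero_smul, zero_add, one_smul] at le0
  simp only [h01', neg_one_smul] at le1
  have hcomm : Commute (sGL Q' B' (eP 0) (eP 1)) l := by
    have := sGL_conj CQ (qP_eP C 0) h01 (omegaGL_le_iso hlm)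
    rw [hl, le0, le1] at this
    have hp := sGL_plane CQ (qP_eP C (0 : Fin 3)) (qP_eP C 1) h01 0 1 (-1) (A.val 1 1)
    rw [zero_smul, zero_add, one_smul, neg_one_smul, zero_mul, one_mul, zero_sub, neg_neg, one_smul] at hp
    rw [hp] at this
    exact (mul_inv_eq_iff_eq_mul.1 this).symm
  obtain ⟨hTH, hlH⟩ := split_comm (H := H) CQ (qP_eP C 0) h01 hcomm
    (lEl_pow 0 1 z₁ z₂ (by rw [← map_pow, hN, map_one])) hNp (Subgroup.subset_closure (Set.mem_insert _ _))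
  have h02 : B' (fP 0 : ι' → F) (eP 2) = 0 := by rw [bP_fP]; simp [eP]
  have hfp : sGL Q' B' (fP 0) (eP 2) ∈ H := by
    have := mul_mem (mul_mem hwH hTH) (inv_mem hwH)
    rwa [sGL_conj CQ (qP_eP C 0) h01 (omegaGL_le_iso hwm), monW_e0, wStep.1] at this
  have hF0 : InC Q' B' H (fP 0) (eP 2) :=
    inC_of_scaled CQ hH (qP_fP C 0) h02 hfp (one_mem H) (r := 1) (s := 1) (by simp) (by simp) (by rwa [one_mul])
  obtain ⟨hE1, hE2⟩ := three_axes C hH hwH hF0
  obtain ⟨-, a2, a3, -⟩ := inC_axes C hH hwH hE1 hE2 1 (by decide)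
  have a3' : InC Q' B' H (eP 1) (fP 0) := inC_of_rpair ((a3.rpair (qP_eP C 1)).symm CQ)
  -- elements carrying the two centres back to `e₀`
  have gK : ∀ {u a x : ι' → F}, qP 2 R u = 0 → bP 2 D u a = 0 → u ∘ Sum.inr = 0 → a ∘ Sum.inr = 0 →
      ((sGL Q' B' u a).val *ᵥ x) ∘ Sum.inr = x ∘ Sum.inr := by
    intro u a x hu hua hu' ha'
    rw [sGL_act CQ hu hua]
    funext j
    have e1 := congrFun hu' j
    have e2 := congrFun ha' j
    simp only [Function.comp_apply, Pi.zero_apply] at e1 e2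
    simp [e1, e2]
  have ke : ∀ i : Fin 3, ((eP i : ι' → F) ∘ Sum.inr) = 0 := fun i => funext fun j => by simp [eP]
  have kf : ∀ i : Fin 3, ((fP i : ι' → F) ∘ Sum.inr) = 0 := fun i => funext fun j => by simp [fP]
  have g1H : sGL Q' B' (eP 0) (fP 1) ∈ H := by simpa using a2.2.2 1
  have g2H : ∀ c : F, sGL Q' B' (eP 1) (c • fP 0) ∈ H := a3'.2.2
  have q1 : ∀ c : F, B' (eP 1 : ι' → F) (c • fP 0) = 0 := fun c => by rw [map_smul, a3'.2.1, smul_zero]
  have kc : ∀ c : F, ((c • (fP 0 : ι' → F)) ∘ Sum.inr) = 0 := fun c => funext fun j => by simp [fP]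
  have m1 : (sGL Q' B' (eP 0) (fP 1)).val *ᵥ (eP 1 : ι' → F) = eP 1 - eP 0 := by
    rw [sGL_act CQ (qP_eP C 0) a2.2.1, bP_eP, bP_fP, qP_fP C]; simp [eP]
  have m2 : ∀ c : F, (sGL Q' B' (eP 1) (c • fP 0)).val *ᵥ (eP 0 : ι' → F) = eP 0 - c • eP 1 := fun c => by
    rw [sGL_act CQ (qP_eP C 1) (q1 c), bP_eP, map_smul, LinearMap.smul_apply, bP_fP, CQ.smul, qP_fP C]
    simp [eP]
  have m3 : ∀ c : F, (sGL Q' B' (eP 1) (c • fP 0)).val *ᵥ (eP 1 : ι' → F) = eP 1 := fun c => by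
    rw [sGL_act CQ (qP_eP C 1) (q1 c), bP_eP, map_smul, LinearMap.smul_apply, bP_fP, CQ.smul, qP_fP C]
    simp [eP]
  obtain ⟨kp, kq⟩ := lEl_emb_inr C hpq z₁ z₂ A hA
  rw [h01', neg_neg, one_smul] at kp
  rw [h10, h00, zero_sub] at kq
  have hQ : InC Q' B' H (eP 0) (zP ((l.val *ᵥ fP 1) ∘ Sum.inr)) := by
    have h := ((a2.map CQ hH hlH).map CQ hH g1H).map CQ hH (g2H (-1))
    rw [hl, le0, m1, Matrix.mulVec_sub, m3, m2] at h
    rw [show (eP 1 : ι' → F) - (eP 0 - (-1 : F) • eP 1) = (-1 : F) • eP 0 by module] at h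
    have h' := h.centre_smul CQ (r := (-1 : F)) (by simp)
    rw [smul_smul, neg_one_mul, neg_neg, one_smul] at h'
    have h'' := inC_zP_of_mem C hH hwH hE1 hE2 h'
    rwa [gK (qP_eP C 1) (q1 _) (ke 1) (kc _), gK (qP_eP C 0) a2.2.1 (ke 0) (kf 1)] at h''
  have hP' : InC Q' B' H (eP 0) (zP ((l.val *ᵥ fP 0) ∘ Sum.inr)) := by
    have h := (a3'.map CQ hH hlH).map CQ hH (g2H (-A.val 1 1))
    rw [hl, le1, Matrix.mulVec_add, Matrix.mulVec_neg, Matrix.mulVec_smul, m3, m2] at h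
    rw [show -((eP 0 : ι' → F) - (-A.val 1 1) • eP 1) + A.val 1 1 • eP 1 = (-1 : F) • eP 0 by module] at h
    have h' := h.centre_smul CQ (r := (-1 : F)) (by simp)
    rw [smul_smul, neg_one_mul, neg_neg, one_smul] at h'
    have h'' := inC_zP_of_mem C hH hwH hE1 hE2 h'
    rwa [gK (qP_eP C 1) (q1 _) (ke 1) (kc _)] at h''
  refine omega_le_of_axes C hH hwH hE1 hE2 fun z => ?_
  rw [hl, kp] at hP'
  rw [hl, kq] at hQ
  obtain ⟨s, t, rfl⟩ := hz z
  convert (hP'.smul ((t - s) / (2 - A.val 1 1))).add CQ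
    (hQ.smul ((A.val 1 1 * t - s - t) / (2 - A.val 1 1))) using 1
  funext j
  rcases j with j | j
  · simp [zP]
  · simp only [zP, Sum.elim_inr, Pi.add_apply, Pi.smul_apply, smul_eq_mul]
    field_simp
    ring

end Cfsg.Lib.Linear.TwoGen
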